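import Groth.Agent.Lib.Cyc.Deform.Global
import Groth.Agent.Lib.Cyc.CH.ZeroSec
import Groth.Agent.Lib.SymAlg.Sections
import Groth.Agent.Lib.Cyc.CH.SquareOps

/-!
# The charts of the deformation
-/

set_option autoImplicit false
set_option linter.style.haveILetI false
universe u

noncomputable section

open CategoryTheory CategoryTheory.Limits AlgebraicGeometry TopologicalSpace Opposite

namespace Groth.Agent.Lib.Cyc.Deform

open Groth.Agent.Lib Groth.Agent.Lib.Cyc Groth.Agent.Lib.Ideal.Prime Groth.Agent.Lib.TensorMod.Gen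
  Groth.Agent.Lib.TensorMod.Dual Groth.Agent.Lib.Modules.StalkModule

theorem map_stalkMap_comp {P Q R : Scheme.{u}} (a : P ⟶ Q) (b : Q ⟶ R)
    (I : ∀ x : R, Ideal (R.presheaf.stalk x)) (x : P) :
    (I ((a ≫ b) x)).map ((a ≫ b).stalkMap x).hom =
      ((I (b (a x))).map (b.stalkMap (a x)).hom).map (a.stalkMap x).hom := by
  rw [Ideal.map_map, Scheme.Hom.stalkMap_comp]
  rfl

theorem stalkIdeal_top_eq {R : CommRingCat.{u}} (I : (Spec R).IdealSheafData) (q : Spec R) :
    stalkIdeal I q =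
      (I.ideal ⟨⊤, isAffineOpen_top _⟩).map ((Spec R).presheaf.germ ⊤ q trivial).hom :=
  stalkIdeal_eq I ⟨⊤, isAffineOpen_top _⟩ trivial

theorem hasIdeal_spec {R S : CommRingCat.{u}} (φ : R ⟶ S) (hφ : Function.Surjective φ.hom) {G : Set R}
    (hker : RingHom.ker φ.hom = Ideal.span G) :
    HasIdeal (Spec.map φ) fun q => Ideal.span (gR R q '' G) := fun q => by
  haveI := IsClosedImmersion.spec_of_surjective φ hφ
  let ε := (Scheme.ΓSpecIso R).inv.hom
  have h : (Spec.map φ).ker.ideal ⟨⊤, isAffineOpen_top _⟩ = (RingHom.ker φ.hom).map ε := by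
    ext x
    obtain ⟨r, rfl⟩ := (ConcreteCategory.bijective_of_isIso (Scheme.ΓSpecIso R).inv).2 x
    rw [Scheme.Hom.ker_apply, RingHom.mem_ker]
    show (Spec.map φ).appTop ((Scheme.ΓSpecIso R).inv r) = 0 ↔ _
    have e := ConcreteCategory.congr_hom (Scheme.ΓSpecIso_inv_naturality φ) r
    simp only [CommRingCat.comp_apply] at e
    rw [← e, map_eq_zero_iff _ (ConcreteCategory.bijective_of_isIso (Scheme.ΓSpecIso S).inv).1]
    have hb := ConcreteCategory.bijective_of_isIso (Scheme.ΓSpecIso R).inv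
    constructor
    · exact fun h0 => Ideal.mem_map_of_mem ε (show r ∈ RingHom.ker φ.hom from h0)
    · intro h0
      obtain ⟨r', hr', e'⟩ := (Ideal.mem_map_iff_of_surjective ε hb.2).1 h0
      rw [← hb.1 e']
      exact hr'
  rw [stalkIdeal_top_eq, h, hker, Ideal.map_span, Ideal.map_span, Set.image_image]
  rfl

/-- A chart of a closed subscheme. -/
theorem exists_spec_square {D P : Scheme.{u}} (i : D ⟶ P) [IsClosedImmersion i] {R S : CommRingCat.{u}}
    (c : Spec R ⟶ P) (φ : R ⟶ S) (hφ : Function.Surjective φ.hom) (r : R)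
    (hker : RingHom.ker φ.hom = Ideal.span {r})
    (h : ∀ q, (stalkIdeal i.ker (c q)).map (c.stalkMap q).hom = Ideal.span {gR R q r}) :
    ∃ k : Spec S ⟶ D, IsPullback k (Spec.map φ) i c := by
  haveI := IsClosedImmersion.spec_of_surjective φ hφ
  exact HasIdeal.exists_isPullback (I := stalkIdeal i.ker) (fun x => rfl)
    (hasIdeal_spec φ hφ (G := {r}) hker) c fun q => by rw [h q, Set.image_singleton]

theorem map_stalkIdeal {D P : Scheme.{u}} {i : D ⟶ P} [IsClosedImmersion i] {M : P.Modules}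
    {m : M.presheaf.obj (op ⊤)} (hM : PicF.IsInvertible M) (hi : Cyc.IsZeroSchemeOf i M m) {Q : Scheme.{u}}
    (c : Q ⟶ P) {q : Q} {a : P.presheaf.stalk (c q)} {t : M.presheaf.stalk (c q)}
    (ht : Submodule.span (P.presheaf.stalk (c q)) {t} = ⊤)
    (hm : M.presheaf.germ ⊤ (c q) trivial m = a • t) :
    (stalkIdeal i.ker (c q)).map (c.stalkMap q).hom = Ideal.span {c.stalkMap q a} := by
  rw [hasIdeal_of_isZeroSchemeOf hM hi ht hm, Ideal.map_span, Set.image_singleton]

variable {X : Scheme.{u}} {L : X.Modules} (s : L.presheaf.obj (op ⊤)) (hL : PicF.IsInvertible L)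

/-- The base of a chart. -/
abbrev BU (U : Idx L) : CommRingCat.{u} := CommRingCat.of (Rel.Base (coef s U))

/-- The lines of a chart. -/
abbrev LU (U : Idx L) : CommRingCat.{u} := CommRingCat.of (Polynomial (Rel.Base (coef s U)))

/-- The quotient map of the base. -/
abbrev mkB (U : Idx L) : CommRingCat.of Γ(X, U.1) ⟶ BU s U := CommRingCat.ofHom (Ideal.Quotient.mk _)

/-- The constants. -/
abbrev cB (U : Idx L) : BU s U ⟶ LU s U := CommRingCat.ofHom Polynomial.C

/-- Evaluation at zero. -/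
abbrev ev0 (U : Idx L) : LU s U ⟶ BU s U := CommRingCat.ofHom (Polynomial.evalRingHom 0)

theorem fromSpec_stalkMap (U : Idx L) (q : Spec (CommRingCat.of Γ(X, U.1))) (c : Γ(X, U.1))
    (hq : U.2.1.fromSpec q ∈ U.1) :
    U.2.1.fromSpec.stalkMap q (X.presheaf.germ U.1 _ hq c) = gR (CommRingCat.of Γ(X, U.1)) q c := by
  refine (Scheme.Hom.germ_stalkMap_apply U.2.1.fromSpec U.1 _ _ c).trans ?_
  rw [IsAffineOpen.fromSpec_app_self, CommRingCat.comp_apply, TopCat.Presheaf.germ_res_apply]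
  rfl

/-- The deformation of `(L, s, i)`. -/
structure Model {D : Scheme.{u}} (i : D ⟶ X) where
  D' : Scheme.{u}
  F : Scheme.{u}
  i' : D' ⟶ space s hL
  jF : F ⟶ space s hL
  p : D' ⟶ D
  qF : F ⟶ D
  z : D ⟶ D'
  zF : D ⟶ F
  τ : (Coh.structureModule (space s hL)).presheaf.obj (op ⊤)
  υ : ((Scheme.Modules.pullback (proj s hL)).obj L).presheaf.obj (op ⊤)
  υ' : ((Scheme.Modules.pullback i').obj ((Scheme.Modules.pullback (proj s hL)).obj L)).presheaf.obj (op ⊤)
  τ' : ((Scheme.Modules.pullback jF).obj (Coh.structureModule (space s hL))).presheaf.obj (op ⊤)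
  closed_i' : IsClosedImmersion i'
  closed_jF : IsClosedImmersion jF
  closed_z : IsClosedImmersion z
  closed_zF : IsClosedImmersion zF
  hi' : Cyc.IsZeroSchemeOf i' (Coh.structureModule (space s hL)) τ
  hjF : Cyc.IsZeroSchemeOf jF ((Scheme.Modules.pullback (proj s hL)).obj L) υ
  hz : Cyc.IsZeroSchemeOf z ((Scheme.Modules.pullback i').obj ((Scheme.Modules.pullback (proj s hL)).obj L)) υ'
  hzF : Cyc.IsZeroSchemeOf zF ((Scheme.Modules.pullback jF).obj (Coh.structureModule (space s hL))) τ'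
  wp : i' ≫ proj s hL = p ≫ i
  wq : jF ≫ proj s hL = qF ≫ i
  z_p : z ≫ p = 𝟙 D
  zF_q : zF ≫ qF = 𝟙 D
  sq : IsPullback z zF i' jF
  chD : ∀ U : Idx L, ∃ (kD : Spec (BU s U) ⟶ D) (k : Spec (LU s U) ⟶ D') (k' : Spec (LU s U) ⟶ F),
    IsPullback kD (Spec.map (mkB s U)) i U.2.1.fromSpec ∧
      IsPullback k (Spec.map (cB s U)) p kD ∧ IsPullback k' (Spec.map (cB s U)) qF kD
  off : ∀ (v : ((⟨(Set.range ⇑i')ᶜ, closed_i'.base_closed.isClosed_range.isOpen_compl⟩ :
      (space s hL).Opens) : Scheme.{u}) ⟶ space s hL),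
    v = Scheme.Opens.ι _ → IsPullback (pullback.fst v jF) (pullback.snd v jF ≫ qF) (v ≫ proj s hL) i

variable {D : Scheme.{u}} (i : D ⟶ X) [IsClosedImmersion i] (hD : Cyc.IsZeroSchemeOf i L s)

omit [IsClosedImmersion i] in
theorem exists_germ_coef (U : Idx L) {x : X} (hx : x ∈ U.1) :
    Submodule.span (X.presheaf.stalk x) {L.presheaf.germ U.1 x hx U.e} = ⊤ ∧
      L.presheaf.germ ⊤ x trivial s = X.presheaf.germ U.1 x hx (coef s U) • L.presheaf.germ U.1 x hx U.e := by
  refine ⟨(SurfInt.Div.span_germ_eq_top U.he hx).1, ?_⟩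
  rw [← germ_smul, coef_spec]
  exact (TopCat.Presheaf.germ_res_apply L.presheaf (homOfLE le_top) x hx s).symm

include hL hD in
theorem exists_base_square (U : Idx L) :
    ∃ kD : Spec (BU s U) ⟶ D, IsPullback kD (Spec.map (mkB s U)) i U.2.1.fromSpec := by
  refine exists_spec_square i (R := CommRingCat.of Γ(X, U.1)) U.2.1.fromSpec (mkB s U)
    Ideal.Quotient.mk_surjective (coef s U) Ideal.mk_ker fun q => ?_
  have hq : U.2.1.fromSpec q ∈ U.1 := by
    have : U.2.1.fromSpec q ∈ Set.range U.2.1.fromSpec := ⟨q, rfl⟩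
    rwa [U.2.1.range_fromSpec] at this
  refine (map_stalkIdeal hL hD _ (exists_germ_coef s U hq).1 (exists_germ_coef s U hq).2).trans ?_
  exact congrArg (fun v => Ideal.span {v}) (fromSpec_stalkMap U q _ hq)

/-- A line of the deformation. -/
theorem exists_line {E : Scheme.{u}} (j : E ⟶ space s hL) [IsClosedImmersion j] {M : (space s hL).Modules}
    {m : M.presheaf.obj (op ⊤)} (hM : PicF.IsInvertible M) (hj : Cyc.IsZeroSchemeOf j M m)
    (r : ∀ U : Idx L, RU s U) (φ : ∀ U : Idx L, RU s U ⟶ LU s U)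
    (hφ : ∀ U, Function.Surjective (φ U).hom) (hker : ∀ U, RingHom.ker (φ U).hom = Ideal.span {r U})
    (hstr : ∀ U, CommRingCat.ofHom (Rel.str (coef s U)) ≫ φ U = mkB s U ≫ cB s U)
    (hm : ∀ (U : Idx L) (q : Spec (RU s U)), ∃ (a : (space s hL).presheaf.stalk (chart s hL U q))
      (t : M.presheaf.stalk (chart s hL U q)),
      Submodule.span ((space s hL).presheaf.stalk (chart s hL U q)) {t} = ⊤ ∧
      M.presheaf.germ ⊤ _ trivial m = a • t ∧ (chart s hL U).stalkMap q a = gR (RU s U) q (r U))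
    (kD : ∀ U : Idx L, Spec (BU s U) ⟶ D)
    (hkD : ∀ U, IsPullback (kD U) (Spec.map (mkB s U)) i U.2.1.fromSpec) :
    ∃ (p : E ⟶ D) (k : ∀ U : Idx L, Spec (LU s U) ⟶ E), j ≫ proj s hL = p ≫ i ∧
      (∀ U, IsPullback (k U) (Spec.map (φ U)) j (chart s hL U)) ∧
      ∀ U, IsPullback (k U) (Spec.map (cB s U)) p (kD U) := by
  have hsq : ∀ U, ∃ k : Spec (LU s U) ⟶ E, IsPullback k (Spec.map (φ U)) j (chart s hL U) :=
    fun U => exists_spec_square j (chart s hL U) (φ U) (hφ U) (r U) (hker U) fun q => by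
      obtain ⟨a, t, ht, he, ha⟩ := hm U q
      rw [map_stalkIdeal hM hj _ ht he, ha]
  choose k hk using hsq
  haveI : ∀ U, IsOpenImmersion (k U) := fun U =>
    MorphismProperty.of_isPullback (hk U).flip inferInstance
  have hfac : ∀ U, (Spec.map (cB s U) ≫ kD U) ≫ i = k U ≫ j ≫ proj s hL := fun U => by
    rw [Category.assoc, (hkD U).w, ← Category.assoc, ← Spec.map_comp, ← hstr, Spec.map_comp,
      Category.assoc, ← chart_proj, ← Category.assoc, ← (hk U).w, Category.assoc]
  let 𝒰 : E.OpenCover :=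
    { I₀ := Idx L
      X := fun U => Spec (LU s U)
      f := k
      mem₀ := by
        rw [Scheme.presieve₀_mem_precoverage_iff]
        refine ⟨fun e => ?_, fun U => inferInstance⟩
        obtain ⟨U, q, hq⟩ := exists_chart s hL (j e)
        obtain ⟨a, ha, -⟩ := Scheme.Pullback.exists_preimage_pullback (f := j) (g := chart s hL U) e q hq.symm
        refine ⟨U, (hk U).isoPullback.inv a, ?_⟩
        rw [← Scheme.Hom.comp_apply, (hk U).isoPullback_inv_fst, ha] }
  have hcomp : ∀ U V : Idx L, pullback.fst (k U) (k V) ≫ Spec.map (cB s U) ≫ kD U =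
      pullback.snd (k U) (k V) ≫ Spec.map (cB s V) ≫ kD V := fun U V => by
    rw [← cancel_mono i]
    simp only [Category.assoc] at hfac ⊢
    rw [hfac, hfac, pullback.condition_assoc]
  let p : E ⟶ D := 𝒰.glueMorphisms (fun U => Spec.map (cB s U) ≫ kD U) hcomp
  have hp : ∀ U, k U ≫ p = Spec.map (cB s U) ≫ kD U := fun U => 𝒰.ι_glueMorphisms _ hcomp U
  have hpi : j ≫ proj s hL = p ≫ i := 𝒰.hom_ext _ _ fun U => by
    show k U ≫ _ = k U ≫ _
    rw [← Category.assoc (k U) p, hp, hfac]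
  refine ⟨p, k, hpi, hk, fun U => ?_⟩
  have h1 := (hk U).paste_vert (isPullback_proj s hL U)
  rw [← Spec.map_comp, hstr, Spec.map_comp, hpi] at h1
  exact IsPullback.of_bot h1 (hp U) (hkD U)

include hL hD in
theorem nonempty_model : Nonempty (Model s hL i) := by
  classical
  obtain ⟨τ, hτ⟩ := exists_T s hL
  obtain ⟨υ, hυ⟩ := exists_U s hL
  let M := (Scheme.Modules.pullback (proj s hL)).obj L
  have hM : PicF.IsInvertible M := PicLoc.isInvertible_pullback (proj s hL) hL
  have hO := PicLoc.isInvertible_structureModule (space s hL)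
  obtain ⟨D', i', hci', hi', -⟩ := CH.ZeroSec.exists_zeroScheme hO τ
  obtain ⟨F, jF, hcjF, hjF, -⟩ := CH.ZeroSec.exists_zeroScheme hM υ
  choose kD hkD using exists_base_square s hL i hD
  have hstrT : ∀ U : Idx L, CommRingCat.ofHom (Rel.str (coef s U)) ≫ CommRingCat.ofHom (Rel.toT (coef s U)) =
      mkB s U ≫ cB s U := fun U => by
    refine CommRingCat.hom_ext (RingHom.ext fun r => ?_)
    simp [Rel.toT, Rel.toU]
  have hstrU : ∀ U : Idx L, CommRingCat.ofHom (Rel.str (coef s U)) ≫ CommRingCat.ofHom (Rel.toU (coef s U)) =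
      mkB s U ≫ cB s U := fun U => by
    refine CommRingCat.hom_ext (RingHom.ext fun r => ?_)
    simp [Rel.toT, Rel.toU]
  obtain ⟨p, k, wp, hk, hkp⟩ := exists_line s hL i i' hO hi' (fun U => Rel.T (coef s U))
    (fun U => CommRingCat.ofHom (Rel.toT (coef s U))) (fun U => (Rel.ker_toT _).1)
    (fun U => (Rel.ker_toT _).2) hstrT hτ kD hkD
  obtain ⟨qF, k', wq, hk', hkq⟩ := exists_line s hL i jF hM hjF (fun U => Rel.U (coef s U))
    (fun U => CommRingCat.ofHom (Rel.toU (coef s U))) (fun U => (Rel.ker_toU _).1)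
    (fun U => (Rel.ker_toU _).2) hstrU hυ kD hkD
  -- the intersection of the two lines
  let E : Scheme.{u} := pullback i' jF
  let π : E ⟶ D := pullback.fst i' jF ≫ p
  have hsqE : ∀ U : Idx L, ∃ kE : Spec (BU s U) ⟶ E,
      IsPullback kE (Spec.map (ev0 s U)) (pullback.fst i' jF) (k U) := fun U => by
    refine exists_spec_square (pullback.fst i' jF) (k U) (ev0 s U)
      (fun b => ⟨Polynomial.C b, Polynomial.eval_C⟩) Polynomial.X ?_ fun b => ?_
    · rw [CommRingCat.hom_ofHom, Polynomial.ker_evalRingHom, map_zero, sub_zero]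
    · have h1 := (HasIdeal.pullback_fst i' (i := jF) (I := stalkIdeal jF.ker) fun x => rfl) (k U b)
      rw [h1]
      have hx : chart s hL U (Spec.map (CommRingCat.ofHom (Rel.toT (coef s U))) b) = i' (k U b) := by
        rw [← Scheme.Hom.comp_apply, ← (hk U).w, Scheme.Hom.comp_apply]
      obtain ⟨a, t, ht, he, ha⟩ := hυ U (Spec.map (CommRingCat.ofHom (Rel.toT (coef s U))) b)
      have hJ := hasIdeal_of_isZeroSchemeOf hM hjF ht he
      have key : ∀ (f g : Spec (LU s U) ⟶ space s hL) (_ : f = g),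
          (stalkIdeal jF.ker (f b)).map (f.stalkMap b).hom = (stalkIdeal jF.ker (g b)).map (g.stalkMap b).hom := by
        rintro f g rfl
        rfl
      refine (map_stalkMap_comp (k U) i' (stalkIdeal jF.ker) b).symm.trans ((key _ _ (hk U).w).trans
        ((map_stalkMap_comp _ (chart s hL U) (stalkIdeal jF.ker) b).trans ?_))
      erw [hJ]
      rw [Ideal.map_span, Set.image_singleton, Ideal.map_span, Set.image_singleton]
      congr 2
      show (Spec.map _).stalkMap b ((chart s hL U).stalkMap _ a) = _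
      rw [ha]
      refine (gR_map _ b _).trans (congrArg _ ?_)
      exact Rel.lift_U (a := coef s U) (W := Polynomial (Rel.Base (coef s U))) _ _ _ (by simp [Rel.mk_self])
  choose kE hkE using hsqE
  haveI : IsIso π := by
    have hev : ∀ U : Idx L, Spec.map (ev0 s U) ≫ Spec.map (cB s U) = 𝟙 _ := fun U => by
      rw [← Spec.map_comp]
      refine (congrArg Spec.map ?_).trans (Spec.map_id _)
      ext r
      exact Polynomial.eval_C
    haveI : ∀ U : Idx L, IsOpenImmersion (kD U) := fun U =>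
      MorphismProperty.of_isPullback (hkD U).flip inferInstance
    refine SymAlg.Sections.isIso_of_squares π kD (fun d => ?_) kE (fun _ => 𝟙 _) fun U => ?_
    · obtain ⟨U, hU, -⟩ := Idx.exists_mem hL (show i d ∈ (⊤ : X.Opens) from trivial)
      have hr : i d ∈ Set.range U.2.1.fromSpec := by rw [U.2.1.range_fromSpec]; exact hU
      obtain ⟨b, hb⟩ := hr
      obtain ⟨a, ha, -⟩ := Scheme.Pullback.exists_preimage_pullback (f := i) (g := U.2.1.fromSpec) d b hb.symm
      exact ⟨U, (hkD U).isoPullback.inv a, by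
        rw [← Scheme.Hom.comp_apply, (hkD U).isoPullback_inv_fst, ha]⟩
    · have h2 := (hkE U).paste_vert (hkp U)
      rwa [hev] at h2
  let z : D ⟶ D' := inv π ≫ pullback.fst i' jF
  let zF : D ⟶ F := inv π ≫ pullback.snd i' jF
  have hsqz : IsPullback z zF i' jF :=
    (IsPullback.of_hasPullback i' jF).of_iso (asIso π) (Iso.refl _) (Iso.refl _) (Iso.refl _)
      (by simp [z]) (by simp [zF]) (by simp) (by simp)
  have hz_p : z ≫ p = 𝟙 D := by
    show (inv π ≫ pullback.fst i' jF) ≫ p = 𝟙 D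
    rw [Category.assoc]
    exact IsIso.inv_hom_id π
  have hzF_q : zF ≫ qF = 𝟙 D := by
    rw [← cancel_mono i, Category.assoc, ← wq, ← Category.assoc, ← hsqz.w, Category.assoc, wp,
      ← Category.assoc, hz_p]
  obtain ⟨υ', hυ'⟩ := Gys.PullZero.exists_zeroSection i' jF hM hjF
  obtain ⟨τ', hτ'⟩ := Gys.PullZero.exists_zeroSection jF i' hO hi'
  haveI : IsClosedImmersion z := MorphismProperty.of_isPullback hsqz.flip hcjF
  haveI : IsClosedImmersion zF := MorphismProperty.of_isPullback hsqz hci'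
  have hzz : Cyc.IsZeroSchemeOf z ((Scheme.Modules.pullback i').obj M) υ' :=
    CH.isZeroSchemeOf_iso (pullback.fst i' jF) z π (by simp [z]) hυ'
  have hzzF : Cyc.IsZeroSchemeOf zF
      ((Scheme.Modules.pullback jF).obj (Coh.structureModule (space s hL))) τ' :=
    CH.isZeroSchemeOf_iso (pullback.fst jF i') zF ((pullbackSymmetry jF i').hom ≫ π)
      (by simp [zF]) hτ'
  refine ⟨⟨D', F, i', jF, p, qF, z, zF, τ, υ, υ', τ', hci', hcjF, inferInstance, inferInstance, hi', hjF,
    hzz, hzzF, wp, wq, hz_p, hzF_q, hsqz, fun U => ⟨kD U, k U, k' U, hkD U, hkp U, hkq U⟩, ?_⟩⟩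
  rintro v rfl
  let v : ((⟨(Set.range ⇑i')ᶜ, hci'.base_closed.isClosed_range.isOpen_compl⟩ :
      (space s hL).Opens) : Scheme.{u}) ⟶ space s hL := Scheme.Opens.ι _
  have hIF := HasIdeal.pullback_fst v (i := jF) (I := stalkIdeal jF.ker) fun x => rfl
  obtain ⟨q, hq⟩ := HasIdeal.exists_isPullback (i := i) (I := stalkIdeal i.ker) (fun x => rfl) hIF
    (v ≫ proj s hL) fun t => by
    refine (map_stalkMap_comp v (proj s hL) (stalkIdeal i.ker) t).trans ?_
    congr 1
    show (stalkIdeal i.ker (proj s hL (v t))).map ((proj s hL).stalkMap (v t)).hom = stalkIdeal jF.ker (v t)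
    obtain ⟨U, b, hb⟩ := exists_chart s hL (v t)
    have ht : v t ∉ Set.range ⇑i' := t.2
    rw [← hb] at ht ⊢
    have hcU : proj s hL (chart s hL U b) ∈ U.1 := (W_eq s hL U).le ⟨b, rfl⟩
    rw [hasIdeal_of_isZeroSchemeOf hL hD (exists_germ_coef s U hcU).1 (exists_germ_coef s U hcU).2,
      Ideal.map_span, Set.image_singleton]
    obtain ⟨a, t', ht', he, ha⟩ := hυ U b
    obtain ⟨a', t'', ht'', he', ha'⟩ := hτ U b
    rw [hasIdeal_of_isZeroSchemeOf hM hjF ht' he]
    have hu : IsUnit a' := Ideal.span_singleton_eq_top.1 ((hasIdeal_of_isZeroSchemeOf hO hi' ht'' he').symm.trans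
      ((ModelFibre.StalkIdeal.stalkIdeal_eq_top_iff _ _).2 fun h => ht (by
        rw [← SetLike.mem_coe, Scheme.Hom.support_ker] at h
        simpa [i'.isClosedEmbedding.isClosed_range.closure_eq] using h)))
    have hg : (proj s hL).stalkMap (chart s hL U b) (X.presheaf.germ U.1 _ hcU (coef s U)) = a' * a := by
      refine (ConcreteCategory.bijective_of_isIso ((chart s hL U).stalkMap b)).1 ?_
      rw [proj_germ s hL U _ ⟨b, rfl⟩, stalkMap_fn, map_mul, ha, ha', ← map_mul]
      exact congrArg _ (Rel.T_mul_U _).symm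
    show Ideal.span {((proj s hL).stalkMap _) (X.presheaf.germ U.1 _ hcU (coef s U))} = Ideal.span {a}
    rw [hg, Ideal.span_singleton_mul_left_unit hu]
  have e : q = pullback.snd v jF ≫ qF := by
    rw [← cancel_mono i, hq.w, Category.assoc, ← wq, ← Category.assoc, pullback.condition, Category.assoc]
  rw [← e]
  exact hq.flip

end Groth.Agent.Lib.Cyc.Deform
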