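import Groth.Agent.Lib.Cyc.Deform.Main
import Groth.Agent.Lib.Cyc.ExtNat

/-!
# Deformation data
-/

set_option autoImplicit false
set_option linter.style.haveILetI false
universe u

noncomputable section

open CategoryTheory CategoryTheory.Limits AlgebraicGeometry

namespace Groth.Agent.Lib.Cyc.Deform

open Groth.Agent.Lib Groth.Agent.Lib.Cyc Groth.Agent.Lib.Cyc.CH Groth.Agent.Lib.Cyc.Gys.Commute

/-- The properties of the deformation of `(L, i)` which survive base change. -/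
structure Datum {X D : Scheme.{u}} (L : X.Modules) (i : D ⟶ X) where
  X' : Scheme.{u}
  D' : Scheme.{u}
  F : Scheme.{u}
  g : X' ⟶ X
  i' : D' ⟶ X'
  jF : F ⟶ X'
  p : D' ⟶ D
  qF : F ⟶ D
  z : D ⟶ D'
  zF : D ⟶ F
  M : X'.Modules
  eM : (Scheme.Modules.pullback g).obj L ≅ M
  τ : (Coh.structureModule X').presheaf.obj (Opposite.op ⊤)
  υ : M.presheaf.obj (Opposite.op ⊤)
  hM : PicF.IsInvertible M
  closed_i' : IsClosedImmersion i'
  closed_jF : IsClosedImmersion jF
  hi' : Cyc.IsZeroSchemeOf i' (Coh.structureModule X') τ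
  hjF : Cyc.IsZeroSchemeOf jF M υ
  wp : i' ≫ g = p ≫ i
  wq : jF ≫ g = qF ≫ i
  z_p : z ≫ p = 𝟙 D
  zF_q : zF ≫ qF = 𝟙 D
  sq : IsPullback z zF i' jF
  flat_g : Flat g
  lft_g : LocallyOfFiniteType g
  flat_p : Flat p
  lft_p : LocallyOfFiniteType p
  flat_q : Flat qF
  lft_q : LocallyOfFiniteType qF
  rel_g : Cyc.HasRelDim g 1
  rel_p : Cyc.HasRelDim p 1
  rel_q : Cyc.HasRelDim qF 1
  off : ∀ {T : Scheme.{u}} (v : T ⟶ X'), (∀ t, v t ∉ Set.range i') →
    IsPullback (pullback.fst v jF) (pullback.snd v jF ≫ qF) (v ≫ g) i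

namespace Datum

variable {X D : Scheme.{u}} {L : X.Modules} {i : D ⟶ X} [IsClosedImmersion i] (M : Datum L i)

theorem closed_z : IsClosedImmersion M.z := MorphismProperty.of_isPullback M.sq.flip M.closed_jF

theorem closed_zF : IsClosedImmersion M.zF := MorphismProperty.of_isPullback M.sq M.closed_i'

variable {δ : X → ℤ} {δ' : M.X' → ℤ}

theorem delta_sec (hg : Cyc.DeltaCompat M.g δ' δ) (d : D) : δ' (M.i' (M.z d)) = δ (i d) := by
  haveI := M.closed_i'
  haveI := M.closed_z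
  have e : (M.z ≫ M.i') ≫ M.g = i := by
    rw [Category.assoc, M.wp, ← Category.assoc, M.z_p, Category.id_comp]
  obtain ⟨n, hn, hn'⟩ := Residue.exists_trdegAt hg (M.i' (M.z d))
  have h1 := trdegAt_closed (M.z ≫ M.i') M.g d
  rw [FieldDim.trdegAt_congr e d, FieldDim.trdegAt_eq_zero_of_surjective i _
    (FieldDim.residueFieldMap_surjective (f := i) _), Scheme.Hom.comp_apply, hn] at h1
  have hn0 : n = 0 := by exact_mod_cast h1.symm
  have h2 : M.g (M.i' (M.z d)) = i d := by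
    rw [← Scheme.Hom.comp_apply, ← Scheme.Hom.comp_apply, ← Category.assoc, e]
  rw [h2] at hn'
  omega

/-- The two Gysin maps agree on the section. -/
theorem sec_eq (hX : Cyc.IsSetup X δ) (hL : PicF.IsInvertible L)
    {s : L.presheaf.obj (Opposite.op ⊤)} (hD : Cyc.IsZeroSchemeOf i L s) (hX' : Cyc.IsSetup M.X' δ')
    (hg : Cyc.DeltaCompat M.g δ' δ) [IsClosedImmersion M.i'] [IsClosedImmersion M.z]
    [IsLocallyNoetherian X] [IsLocallyNoetherian D] [IsLocallyNoetherian M.X'] [IsLocallyNoetherian M.D']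
    [Flat M.g] [LocallyOfFiniteType M.g] (hsg : FP.Main.Shift M.g δ' δ 1)
    {w : (ξ : X) → Cyc.secFibre L ξ} (hw : ∀ ξ, w ξ ≠ 0)
    {w' : (ξ : M.X') → Cyc.secFibre (Coh.structureModule M.X') ξ} (hw' : ∀ ξ, w' ξ ≠ 0)
    {υ' : ((Scheme.Modules.pullback M.i').obj M.M).presheaf.obj (Opposite.op ⊤)}
    (hz : Cyc.IsZeroSchemeOf M.z ((Scheme.Modules.pullback M.i').obj M.M) υ')
    (hMi : PicF.IsInvertible ((Scheme.Modules.pullback M.i').obj M.M))
    {w₁ : (ξ : M.D') → Cyc.secFibre ((Scheme.Modules.pullback M.i').obj M.M) ξ} (hw₁ : ∀ ξ, w₁ ξ ≠ 0)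
    (e : (fun d => δ (i d)) = fun d => δ' (M.i' (M.z d))) (x : Tot X δ) :
    gys M.z (Gys.Closed.isDimFun M.i' hX'.2.2) hMi hz hw₁
        (gys M.i' hX'.2.2 (PicLoc.isInvertible_structureModule _) M.hi' hw'
          (pull hX'.2.2 hX.2.2 M.g hsg x)) =
      cast e (gys i hX.2.2 hL hD hw x) := by
  haveI := M.closed_jF
  haveI := M.closed_zF
  haveI := M.flat_q
  haveI := M.lft_q
  haveI : IsLocallyNoetherian M.F := LocallyOfFiniteType.isLocallyNoetherian M.jF
  have hX0 := hX.2.2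
  have hδ' := hX'.2.2
  have hjF := M.hjF
  have hO := PicLoc.isInvertible_structureModule M.X'
  have hM := M.hM
  have hOj := PicLoc.isInvertible_pullback M.jF hO
  have hδD := Gys.Closed.isDimFun i hX0
  have hδF := Gys.Closed.isDimFun M.jF hδ'
  have hFs : Cyc.IsSetup M.F (fun f => δ' (M.jF f)) :=
    isSetup_of_deltaCompat M.jF hX' (PP.SubSetup.deltaCompat M.jF)
  have hcq : Cyc.DeltaCompat M.qF (fun f => δ' (M.jF f)) (fun d => δ (i d)) :=
    deltaCompat_of_comm (π := i) (π' := M.jF) (f := M.g) M.wq.symm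
      (PP.SubSetup.deltaCompat i) (PP.SubSetup.deltaCompat M.jF) hg
  have hsq : FP.Main.Shift M.qF (fun f => δ' (M.jF f)) (fun d => δ (i d)) 1 := by
    have := FP.Main.shift_of_hasRelDim M.qF M.rel_q hcq
    exact_mod_cast this
  have hzF : ∀ d : D, δ' (M.jF (M.zF d)) = δ (i d) := fun d => by
    rw [← Scheme.Hom.comp_apply, ← M.sq.w, Scheme.Hom.comp_apply, M.delta_sec hg]
  have ezF : (fun d => δ (i d)) = fun d => δ' (M.jF (M.zF d)) := funext fun d => (hzF d).symm
  obtain ⟨w₂, hw₂⟩ := exists_sections hOj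
  obtain ⟨wM, hwM⟩ := exists_sections hM
  obtain ⟨τ', hzF'⟩ := Ext.exists_zero_square M.sq.flip hO M.hi'
  let xg := pull hδ' hX0 M.g hsg x
  let a := gys M.jF hδ' hM hjF hwM xg
  let b := pull hδF hδD M.qF hsq (gys i hX0 hL hD hw x)
  -- the difference lives on the section
  have hab : ∃ y, push (Gys.Closed.isDimFun M.zF hδF) hδF M.zF (PP.SubSetup.deltaCompat M.zF (δ := fun f => δ' (M.jF f))) y = a - b := by
    let V : M.X'.Opens := ⟨(Set.range ⇑M.i')ᶜ, M.closed_i'.base_closed.isClosed_range.isOpen_compl⟩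
    let v : (V : Scheme.{u}) ⟶ M.X' := V.ι
    have hoff := M.off v fun t => t.2
    let j0 := pullback.snd v M.jF
    haveI : IsLocallyNoetherian (V : Scheme.{u}) := LocallyOfFiniteType.isLocallyNoetherian v
    haveI : IsLocallyNoetherian (pullback v M.jF : Scheme.{u}) :=
      LocallyOfFiniteType.isLocallyNoetherian j0
    have hZ : Set.range ⇑M.zF = (Set.range ⇑j0)ᶜ := by
      ext f
      have h1 : f ∈ Set.range ⇑M.zF ↔ M.jF f ∈ Set.range ⇑M.i' := by
        constructor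
        · rintro ⟨d, rfl⟩
          exact ⟨M.z d, by rw [← Scheme.Hom.comp_apply, M.sq.w, Scheme.Hom.comp_apply]⟩
        · rintro ⟨e, he⟩
          obtain ⟨d, -, hd⟩ := Scheme.Pullback.exists_preimage_pullback (f := M.i') (g := M.jF) e f he
          exact ⟨M.sq.isoPullback.inv d, by rw [← Scheme.Hom.comp_apply, M.sq.isoPullback_inv_snd, hd]⟩
      have h2 : f ∈ Set.range ⇑j0 ↔ M.jF f ∉ Set.range ⇑M.i' := by
        constructor
        · rintro ⟨e, rfl⟩
          rw [← Scheme.Hom.comp_apply, ← pullback.condition, Scheme.Hom.comp_apply]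
          exact (pullback.fst v M.jF e).2
        · intro hf
          obtain ⟨e, -, he⟩ := Scheme.Pullback.exists_preimage_pullback (f := v) (g := M.jF)
            (⟨M.jF f, hf⟩ : V) f rfl
          exact ⟨e, he⟩
      rw [Set.mem_compl_iff, h1, h2, not_not]
    refine exists_push_of_pull_eq_zero j0 M.zF hZ hδF ?_
    rw [map_sub, sub_eq_zero]
    have hδV := PP.OpenImm.isDimFun v hδ'
    have hLv := PicLoc.isInvertible_pullback (v ≫ M.g) hL
    haveI : IsLocallyNoetherian (pullback (v ≫ M.g) i : Scheme.{u}) :=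
      LocallyOfFiniteType.isLocallyNoetherian (pullback.fst (v ≫ M.g) i)
    obtain ⟨σ, hσ⟩ := Gys.PullZero.exists_zeroSection v M.jF hM hjF
    obtain ⟨σ₂, hσ₂⟩ := Gys.PullZero.exists_zeroSection (v ≫ M.g) i hL hD
    have hσ₂' : Cyc.IsZeroSchemeOf (pullback.fst v M.jF)
        ((Scheme.Modules.pullback (v ≫ M.g)).obj L) σ₂ :=
      isZeroSchemeOf_iso (pullback.fst (v ≫ M.g) i) (pullback.fst v M.jF) hoff.isoPullback.inv
        hoff.isoPullback_inv_fst hσ₂
    obtain ⟨wv, hwv⟩ := exists_sections (PicLoc.isInvertible_pullback v hM)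
    obtain ⟨wv₂, hwv₂⟩ := exists_sections hLv
    have hsvg : FP.Main.Shift (v ≫ M.g) (fun u => δ' (v u)) δ 1 := fun y hy => by
      rw [Scheme.Hom.comp_apply]
      exact hsg (v y) ((isMaxFib_openImm v M.g y).1 hy)
    have hc2 : FP.Main.Shift j0 (fun z => (fun u => δ' (v u)) (pullback.fst v M.jF z))
        (fun f => δ' (M.jF f)) 0 := fun z _ => by
      rw [add_zero]
      show δ' (v (pullback.fst v M.jF z)) = δ' (M.jF (j0 z))
      rw [← Scheme.Hom.comp_apply, pullback.condition, Scheme.Hom.comp_apply]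
    have ej0 : (fun z => (fun f => δ' (M.jF f)) (j0 z)) =
        fun z => (fun u => δ' (v u)) (pullback.fst v M.jF z) := funext fun z => by
      show δ' (M.jF (j0 z)) = δ' (v (pullback.fst v M.jF z))
      rw [← Scheme.Hom.comp_apply, ← Scheme.Hom.comp_apply, pullback.condition]
    have key : ∀ y, pull (PP.OpenImm.isDimFun j0 hδF) hδF j0 (shift_restrict j0 (δ := fun f => δ' (M.jF f))) y =
        Gys.Commute.cast ej0.symm (pull (Gys.Closed.isDimFun (pullback.fst v M.jF) hδV) hδF j0 hc2 y) := by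
      have gen : ∀ (δ₁ δ₂ : ↥(pullback v M.jF) → ℤ) (e : δ₁ = δ₂) (h₁ : Cyc.IsDimFun _ δ₁)
          (h₂ : Cyc.IsDimFun _ δ₂) (c₁ : FP.Main.Shift j0 δ₁ (fun f => δ' (M.jF f)) 0)
          (c₂ : FP.Main.Shift j0 δ₂ (fun f => δ' (M.jF f)) 0) y,
          pull h₁ hδF j0 c₁ y = Gys.Commute.cast e.symm (pull h₂ hδF j0 c₂ y) := by
        intro δ₁ δ₂ e h₁ h₂ c₁ c₂ y
        subst e
        rfl
      exact gen _ _ ej0 _ _ _ _
    rw [key, key]
    congr 1
    rw [← gys_pull_square v M.jF (pullback.fst v M.jF) j0 hδ' hδV hM hjF hσ hwM hwv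
      (IsPullback.of_hasPullback v M.jF) (shift_restrict v) hc2 xg]
    have hscomp : FP.Main.Shift (pullback.snd v M.jF ≫ M.qF)
        (fun z => (fun u => δ' (v u)) (pullback.fst v M.jF z)) (fun d => δ (i d)) 1 := fun y hy => by
      rw [Scheme.Hom.comp_apply]
      have h1 := hc2 y (fun y' hy' _ => j0.isOpenEmbedding.injective hy')
      rw [add_zero] at h1
      exact h1.trans (hsq _ ((isMaxFib_openImm j0 M.qF y).1 hy))
    rw [pull_comp (Gys.Closed.isDimFun (pullback.fst v M.jF) hδV) hδF j0 hc2 hδD M.qF hsq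
      (pullback.snd v M.jF ≫ M.qF) rfl hscomp (zero_add 1),
      ← gys_pull_square (v ≫ M.g) i (pullback.fst v M.jF) (pullback.snd v M.jF ≫ M.qF) hX0 hδV hL hD
        hσ₂' hw hwv₂ hoff hsvg hscomp x,
      pull_comp hδV hδ' v (shift_restrict v) hX0 M.g hsg (v ≫ M.g) rfl hsvg (zero_add 1)]
    exact gys_unique (pullback.fst v M.jF)
      (((Scheme.Modules.pullbackComp v M.g).app L).symm ≪≫ (Scheme.Modules.pullback v).mapIso M.eM) hδV
      hLv (PicLoc.isInvertible_pullback v hM) hσ₂' hσ hwv₂ hwv _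
  obtain ⟨y, hy⟩ := hab
  have hDzF := Gys.Closed.isDimFun M.zF hδF
  have hcomm := gys_comm M.jF M.i' M.zF M.z M.sq.flip hδ' hM hO hjF M.hi' hzF' hz hwM hw'
    hw₂ hw₁ xg
  have h0 : gys M.zF hδF hOj hzF' hw₂ (a - b) = 0 := by
    rw [← hy, gys_push_self M.zF hδF hOj hzF' hw₂ rfl hDzF]
    have hiso : (Scheme.Modules.pullback M.zF).obj ((Scheme.Modules.pullback M.jF).obj
        (Coh.structureModule M.X')) ≅ Coh.structureModule D :=
      (Scheme.Modules.pullback M.zF).mapIso (PicLoc.pullbackStructureIso M.jF) ≪≫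
        PicLoc.pullbackStructureIso M.zF
    rw [c1_congr hDzF (PicLoc.isInvertible_pullback M.zF hOj) (PicLoc.isInvertible_structureModule D) hiso,
      c1_structureModule hDzF (PicLoc.isInvertible_structureModule D)
        (isSetup_of_deltaCompat M.zF hFs (PP.SubSetup.deltaCompat M.zF (δ := fun f => δ' (M.jF f))))]
    rfl
  have hb : gys M.zF hδF hOj hzF' hw₂ b = cast ezF (gys i hX0 hL hD hw x) :=
    gys_sec M.qF M.zF M.zF_q hOj hzF' hw₂ hδF hδD hsq ezF _
  rw [map_sub, sub_eq_zero, hb] at h0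
  rw [h0] at hcomm
  refine cast_injective (Gys.Commute.fun_eq M.jF M.i' M.zF M.z M.sq.flip (δ := δ')) ?_
  rw [← hcomm, cast_trans_eq]

end Datum

end Groth.Agent.Lib.Cyc.Deform
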