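import Groth.Agent.Lib.Cyc.Deform.Datum
import Groth.Agent.Lib.Cyc.Bivar.FlatClass

/-!
# Base change of deformation data
-/

set_option autoImplicit false
set_option linter.style.haveILetI false
universe u

noncomputable section

open CategoryTheory CategoryTheory.Limits AlgebraicGeometry

namespace Groth.Agent.Lib.Cyc.Deform

open Groth.Agent.Lib Groth.Agent.Lib.Cyc Groth.Agent.Lib.Cyc.CH

namespace Datum

section OfModel

variable {X D : Scheme.{u}} {L : X.Modules} {s : L.presheaf.obj (Opposite.op ⊤)}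
  {hL : PicF.IsInvertible L} {i : D ⟶ X} [IsClosedImmersion i] (M : Model s hL i) {δ : X → ℤ}

/-- The data of a model. -/
def ofModel (hX : Cyc.IsSetup X δ) (hD : Cyc.IsZeroSchemeOf i L s) : Datum L i where
  X' := space s hL
  D' := M.D'
  F := M.F
  g := proj s hL
  i' := M.i'
  jF := M.jF
  p := M.p
  qF := M.qF
  z := M.z
  zF := M.zF
  M := (Scheme.Modules.pullback (proj s hL)).obj L
  eM := Iso.refl _
  τ := M.τ
  υ := M.υ
  hM := PicLoc.isInvertible_pullback _ hL
  closed_i' := M.closed_i'
  closed_jF := M.closed_jF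
  hi' := M.hi'
  hjF := M.hjF
  wp := M.wp
  wq := M.wq
  z_p := M.z_p
  zF_q := M.zF_q
  sq := M.sq
  flat_g := inferInstance
  lft_g := inferInstance
  flat_p := M.chartsP.flat
  lft_p := M.chartsP.lft
  flat_q := M.chartsQ.flat
  lft_q := M.chartsQ.lft
  rel_g := hasRelDim_proj M hD hX
  rel_p := by
    obtain ⟨δ', hX', -⟩ := exists_setup (proj s hL) hX
    haveI := M.closed_i'
    exact M.chartsP.hasRelDim
      (isSetup_of_deltaCompat M.i' hX' (PP.SubSetup.deltaCompat M.i'))
  rel_q := by
    obtain ⟨δ', hX', -⟩ := exists_setup (proj s hL) hX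
    haveI := M.closed_jF
    exact M.chartsQ.hasRelDim
      (isSetup_of_deltaCompat M.jF hX' (PP.SubSetup.deltaCompat M.jF))
  off := fun {T} v hv => by
    let V : (space s hL).Opens :=
      ⟨(Set.range ⇑M.i')ᶜ, M.closed_i'.base_closed.isClosed_range.isOpen_compl⟩
    have hr : Set.range ⇑v ⊆ Set.range ⇑V.ι := by
      rw [Scheme.Opens.range_ι]
      rintro x ⟨t, rfl⟩
      exact hv t
    let v' := IsOpenImmersion.lift V.ι v hr
    have hv' : v' ≫ V.ι = v := IsOpenImmersion.lift_fac _ _ hr
    let l : pullback v M.jF ⟶ pullback V.ι M.jF :=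
      pullback.lift (pullback.fst v M.jF ≫ v') (pullback.snd v M.jF)
        (by rw [Category.assoc, hv', pullback.condition])
    have hs : IsPullback l (pullback.fst v M.jF) (pullback.fst V.ι M.jF) v' := by
      refine IsPullback.of_right ?_ (pullback.lift_fst _ _ _) (IsPullback.of_hasPullback V.ι M.jF).flip
      rw [pullback.lift_snd, hv']
      exact (IsPullback.of_hasPullback v M.jF).flip
    have := hs.paste_horiz (M.off V.ι rfl).flip
    rw [← Category.assoc, pullback.lift_snd, ← Category.assoc, hv'] at this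
    exact this.flip

end OfModel

section BaseChange

variable {X D : Scheme.{u}} {L : X.Modules} {i : D ⟶ X} (M : Datum L i) {X₁ E : Scheme.{u}}
  (φ : X₁ ⟶ X) (j : E ⟶ X₁) (pT : E ⟶ D) (h : IsPullback pT j i φ)

/-- The deformed space over the base change. -/
abbrev bX : Scheme.{u} := pullback φ M.g

/-- The deformed zero scheme over the base change. -/
abbrev bD : Scheme.{u} := pullback (pullback.snd φ M.g) M.i'

/-- The second zero scheme over the base change. -/
abbrev bF : Scheme.{u} := pullback (pullback.snd φ M.g) M.jF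

/-- The projection of the deformed zero scheme. -/
def bp : bD M φ ⟶ E :=
  h.lift (pullback.snd (pullback.snd φ M.g) M.i' ≫ M.p)
    (pullback.fst (pullback.snd φ M.g) M.i' ≫ pullback.fst φ M.g) (by
      rw [Category.assoc, ← M.wp, ← Category.assoc, ← pullback.condition, Category.assoc,
        ← pullback.condition, Category.assoc])

/-- The projection of the second zero scheme. -/
def bq : bF M φ ⟶ E :=
  h.lift (pullback.snd (pullback.snd φ M.g) M.jF ≫ M.qF)
    (pullback.fst (pullback.snd φ M.g) M.jF ≫ pullback.fst φ M.g) (by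
      rw [Category.assoc, ← M.wq, ← Category.assoc, ← pullback.condition, Category.assoc,
        ← pullback.condition, Category.assoc])

theorem isPullback_g : IsPullback (pullback.snd φ M.g) (pullback.fst φ M.g) M.g φ :=
  (IsPullback.of_hasPullback φ M.g).flip

theorem isPullback_bp : IsPullback (pullback.snd (pullback.snd φ M.g) M.i') (bp M φ j pT h) M.p pT := by
  refine IsPullback.of_bot ?_ (h.lift_fst _ _ _).symm h
  rw [bp, h.lift_snd, ← M.wp]
  exact (IsPullback.of_hasPullback (pullback.snd φ M.g) M.i').flip.paste_vert (isPullback_g M φ)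

theorem isPullback_bq : IsPullback (pullback.snd (pullback.snd φ M.g) M.jF) (bq M φ j pT h) M.qF pT := by
  refine IsPullback.of_bot ?_ (h.lift_fst _ _ _).symm h
  rw [bq, h.lift_snd, ← M.wq]
  exact (IsPullback.of_hasPullback (pullback.snd φ M.g) M.jF).flip.paste_vert (isPullback_g M φ)

/-- The section of `bp`. -/
def bz : E ⟶ bD M φ :=
  (isPullback_bp M φ j pT h).lift (pT ≫ M.z) (𝟙 E)
    (by rw [Category.assoc, M.z_p, Category.comp_id, Category.id_comp])

/-- The section of `bq`. -/
def bzF : E ⟶ bF M φ :=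
  (isPullback_bq M φ j pT h).lift (pT ≫ M.zF) (𝟙 E)
    (by rw [Category.assoc, M.zF_q, Category.comp_id, Category.id_comp])

theorem bz_bp : bz M φ j pT h ≫ bp M φ j pT h = 𝟙 E := IsPullback.lift_snd _ _ _ _

theorem bzF_bq : bzF M φ j pT h ≫ bq M φ j pT h = 𝟙 E := IsPullback.lift_snd _ _ _ _

theorem bp_fst : bp M φ j pT h ≫ j = pullback.fst (pullback.snd φ M.g) M.i' ≫ pullback.fst φ M.g :=
  h.lift_snd _ _ _

theorem bq_fst : bq M φ j pT h ≫ j = pullback.fst (pullback.snd φ M.g) M.jF ≫ pullback.fst φ M.g :=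
  h.lift_snd _ _ _

theorem isPullback_bz : IsPullback (bz M φ j pT h) pT (pullback.snd (pullback.snd φ M.g) M.i') M.z := by
  refine (IsPullback.of_bot (v₂₁ := bp M φ j pT h) (v₂₂ := M.p) ?_
    (IsPullback.lift_fst _ _ _ _).symm (isPullback_bp M φ j pT h)).flip
  rw [IsPullback.lift_snd, M.z_p]
  exact IsPullback.of_vert_isIso ⟨by rw [Category.id_comp, Category.comp_id]⟩

theorem isPullback_bsq : IsPullback (bz M φ j pT h) (bzF M φ j pT h)
    (pullback.fst (pullback.snd φ M.g) M.i') (pullback.fst (pullback.snd φ M.g) M.jF) := by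
  have e1 : bzF M φ j pT h ≫ pullback.snd (pullback.snd φ M.g) M.jF = pT ≫ M.zF :=
    IsPullback.lift_fst _ _ _ _
  have e2 : bz M φ j pT h ≫ pullback.snd (pullback.snd φ M.g) M.i' = pT ≫ M.z :=
    IsPullback.lift_fst _ _ _ _
  refine IsPullback.of_bot (v₂₁ := pullback.snd (pullback.snd φ M.g) M.jF)
    (v₂₂ := pullback.snd φ M.g) ?_ ?_
    (IsPullback.of_hasPullback (pullback.snd φ M.g) M.jF)
  · rw [e1, pullback.condition]
    exact (isPullback_bz M φ j pT h).paste_vert M.sq
  · refine pullback.hom_ext ?_ ?_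
    · rw [Category.assoc, Category.assoc, ← bp_fst M φ j pT h, ← bq_fst M φ j pT h, ← Category.assoc, bz_bp,
        ← Category.assoc, bzF_bq]
    · rw [Category.assoc, Category.assoc, pullback.condition, pullback.condition, ← Category.assoc, e2,
        Category.assoc, M.sq.w, ← Category.assoc, ← e1, Category.assoc]

theorem off' {T : Scheme.{u}} (v : T ⟶ M.X') (hv : ∀ t, v t ∉ Set.range M.i') {P : Scheme.{u}}
    {a : P ⟶ T} {b : P ⟶ M.F} (hs : IsPullback a b v M.jF) :
    IsPullback a (b ≫ M.qF) (v ≫ M.g) i :=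
  (M.off v hv).of_iso hs.isoPullback.symm (Iso.refl _) (Iso.refl _) (Iso.refl _) (by simp) (by simp)
    (by simp) (by simp)

theorem isPullback_off {T : Scheme.{u}} (v : T ⟶ bX M φ)
    (hv : ∀ t, v t ∉ Set.range (pullback.fst (pullback.snd φ M.g) M.i')) :
    IsPullback (pullback.fst v (pullback.fst (pullback.snd φ M.g) M.jF))
      (pullback.snd v (pullback.fst (pullback.snd φ M.g) M.jF) ≫ bq M φ j pT h)
      (v ≫ pullback.fst φ M.g) j := by
  have hvψ : ∀ t, (v ≫ pullback.snd φ M.g) t ∉ Set.range M.i' := fun t => by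
    rintro ⟨d, hd⟩
    obtain ⟨e, he, -⟩ := Scheme.Pullback.exists_preimage_pullback (f := pullback.snd φ M.g) (g := M.i')
      (v t) d hd.symm
    exact hv t ⟨e, he⟩
  have := off' M (v ≫ pullback.snd φ M.g) hvψ
    ((IsPullback.of_hasPullback v (pullback.fst (pullback.snd φ M.g) M.jF)).paste_vert
      (IsPullback.of_hasPullback (pullback.snd φ M.g) M.jF))
  refine IsPullback.of_bot (v₂₁ := pT) (v₂₂ := φ) ?_ ?_ h.flip
  · convert this using 1
    · rw [bq, Category.assoc, h.lift_fst, Category.assoc]
    · rw [Category.assoc, Category.assoc, pullback.condition]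
  · rw [Category.assoc, bq_fst, ← Category.assoc, ← Category.assoc, pullback.condition]

theorem exists_bt : ∃ τ : (Coh.structureModule (bX M φ)).presheaf.obj (Opposite.op ⊤),
    Cyc.IsZeroSchemeOf (pullback.fst (pullback.snd φ M.g) M.i') (Coh.structureModule (bX M φ)) τ := by
  haveI := M.closed_i'
  obtain ⟨τ, hτ⟩ := Ext.exists_zero_square (IsPullback.of_hasPullback (pullback.snd φ M.g) M.i')
    (PicLoc.isInvertible_structureModule M.X') M.hi'
  exact ⟨_, isZeroSchemeOf_map (PicLoc.pullbackStructureIso (pullback.snd φ M.g)) _ hτ⟩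

theorem exists_bu : ∃ υ : ((Scheme.Modules.pullback (pullback.snd φ M.g)).obj M.M).presheaf.obj
    (Opposite.op ⊤), Cyc.IsZeroSchemeOf (pullback.fst (pullback.snd φ M.g) M.jF)
      ((Scheme.Modules.pullback (pullback.snd φ M.g)).obj M.M) υ := by
  haveI := M.closed_jF
  exact Ext.exists_zero_square (IsPullback.of_hasPullback (pullback.snd φ M.g) M.jF) M.hM M.hjF

/-- The base change of the data. -/
def baseChange : Datum ((Scheme.Modules.pullback φ).obj L) j where
  X' := bX M φ
  D' := bD M φ
  F := bF M φ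
  g := pullback.fst φ M.g
  i' := pullback.fst (pullback.snd φ M.g) M.i'
  jF := pullback.fst (pullback.snd φ M.g) M.jF
  p := bp M φ j pT h
  qF := bq M φ j pT h
  z := bz M φ j pT h
  zF := bzF M φ j pT h
  M := (Scheme.Modules.pullback (pullback.snd φ M.g)).obj M.M
  eM := (Scheme.Modules.pullbackComp (pullback.fst φ M.g) φ).app L ≪≫
    (Scheme.Modules.pullbackCongr pullback.condition).app L ≪≫
    ((Scheme.Modules.pullbackComp (pullback.snd φ M.g) M.g).app L).symm ≪≫
    (Scheme.Modules.pullback (pullback.snd φ M.g)).mapIso M.eM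
  τ := (exists_bt M φ).choose
  υ := (exists_bu M φ).choose
  hM := PicLoc.isInvertible_pullback _ M.hM
  closed_i' := haveI := M.closed_i'; inferInstance
  closed_jF := haveI := M.closed_jF; inferInstance
  hi' := (exists_bt M φ).choose_spec
  hjF := (exists_bu M φ).choose_spec
  wp := (bp_fst M φ j pT h).symm
  wq := (bq_fst M φ j pT h).symm
  z_p := bz_bp M φ j pT h
  zF_q := bzF_bq M φ j pT h
  sq := isPullback_bsq M φ j pT h
  flat_g := haveI := M.flat_g; inferInstance
  lft_g := haveI := M.lft_g; inferInstance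
  flat_p := MorphismProperty.of_isPullback (isPullback_bp M φ j pT h) M.flat_p
  lft_p := MorphismProperty.of_isPullback (isPullback_bp M φ j pT h) M.lft_p
  flat_q := MorphismProperty.of_isPullback (isPullback_bq M φ j pT h) M.flat_q
  lft_q := MorphismProperty.of_isPullback (isPullback_bq M φ j pT h) M.lft_q
  rel_g := haveI := M.lft_g; (Groth.Agent.S9358.result M.g φ _ _ (isPullback_g M φ) 1).2.2 M.rel_g
  rel_p := haveI := M.lft_p; (Groth.Agent.S9358.result M.p pT _ _ (isPullback_bp M φ j pT h) 1).2.2 M.rel_p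
  rel_q := haveI := M.lft_q; (Groth.Agent.S9358.result M.qF pT _ _ (isPullback_bq M φ j pT h) 1).2.2 M.rel_q
  off := fun v hv => isPullback_off M φ j pT h v hv

end BaseChange

end Datum

end Groth.Agent.Lib.Cyc.Deform
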