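import Groth.Agent.Lib.ModelFibre.StalkIdeal
import Groth.Agent.Lib.CartierDescent.Stalk
import Groth.Agent.Lib.Cyc.PP.GysPush
import Groth.Agent.Lib.Cyc.Gys.Cycle
import Groth.Agent.Lib.Cyc.Gys.MulMap

/-!
# Closed subschemes through their stalkwise ideals
-/

set_option autoImplicit false
set_option linter.style.haveILetI false
universe u

open CategoryTheory CategoryTheory.Limits AlgebraicGeometry IsLocalRing

noncomputable section

namespace Groth.Agent.Lib.Cyc.Deform

open Groth.Agent.Lib Groth.Agent.Lib.Cyc Groth.Agent.Lib.Ideal.Prime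

variable {X T D E : Scheme.{u}}

/-- The ideal of a closed subscheme at every point. -/
def HasIdeal (i : D ⟶ X) (I : ∀ x : X, Ideal (X.presheaf.stalk x)) : Prop :=
  ∀ x, stalkIdeal i.ker x = I x

theorem HasIdeal.congr {i : D ⟶ X} {I J : ∀ x : X, Ideal (X.presheaf.stalk x)} (h : HasIdeal i I)
    (e : ∀ x, I x = J x) : HasIdeal i J := fun x => (h x).trans (e x)

theorem HasIdeal.exists_iso {i : D ⟶ X} [IsClosedImmersion i] {j : E ⟶ X} [IsClosedImmersion j]
    {I : ∀ x : X, Ideal (X.presheaf.stalk x)} (hi : HasIdeal i I) (hj : HasIdeal j I) :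
    ∃ e : D ≅ E, e.hom ≫ j = i := by
  have h : i.ker = j.ker :=
    ModelFibre.StalkIdeal.ext_of_stalkIdeal fun x => (hi x).trans (hj x).symm
  refine ⟨⟨IsClosedImmersion.lift j i h.ge, IsClosedImmersion.lift i j h.le, ?_, ?_⟩,
    IsClosedImmersion.lift_fac _ _ _⟩
  · rw [← cancel_mono i, Category.assoc, IsClosedImmersion.lift_fac, IsClosedImmersion.lift_fac,
      Category.id_comp]
  · rw [← cancel_mono j, Category.assoc, IsClosedImmersion.lift_fac, IsClosedImmersion.lift_fac,
      Category.id_comp]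

theorem HasIdeal.pullback_fst (f : T ⟶ X) {i : D ⟶ X} [IsClosedImmersion i]
    {I : ∀ x : X, Ideal (X.presheaf.stalk x)} (hi : HasIdeal i I) :
    HasIdeal (pullback.fst f i) fun t => (I (f t)).map (f.stalkMap t).hom := fun t => by
  rw [Scheme.IdealSheafData.ker_fst_of_isClosedImmersion, CartierDescent.stalkIdeal_comap, hi]

/-- A closed immersion is the inverse image of another as soon as the ideals agree. -/
theorem HasIdeal.exists_isPullback {i : D ⟶ X} [IsClosedImmersion i]
    {I : ∀ x : X, Ideal (X.presheaf.stalk x)} (hi : HasIdeal i I) {j : E ⟶ T} [IsClosedImmersion j]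
    {J : ∀ t : T, Ideal (T.presheaf.stalk t)} (hj : HasIdeal j J) (f : T ⟶ X)
    (h : ∀ t, (I (f t)).map (f.stalkMap t).hom = J t) :
    ∃ q : E ⟶ D, IsPullback q j i f := by
  obtain ⟨e, he⟩ := ((hi.pullback_fst f).congr h).exists_iso hj
  refine ⟨e.inv ≫ pullback.snd f i, ((IsPullback.of_hasPullback f i).flip).of_iso e
    (Iso.refl _) (Iso.refl _) (Iso.refl _) ?_ ?_ ?_ ?_⟩ <;> simp [he]

theorem hasIdeal_of_isZeroSchemeOf {i : D ⟶ X} [IsClosedImmersion i] {L : X.Modules}
    {s : L.presheaf.obj (Opposite.op ⊤)} (hL : PicF.IsInvertible L) (hD : Cyc.IsZeroSchemeOf i L s)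
    {x : X} {t : L.presheaf.stalk x} {a : X.presheaf.stalk x}
    (ht : Submodule.span (X.presheaf.stalk x) {t} = ⊤) (hs : L.presheaf.germ ⊤ x trivial s = a • t) :
    stalkIdeal i.ker x = Ideal.span {a} := by
  have hrange : x ∈ Set.range ⇑i ↔ ¬ IsUnit a := by
    rw [hD.1]
    show (Submodule.Quotient.mk _ : Cyc.secFibre L x) = 0 ↔ _
    rw [hs]
    show a • (Submodule.Quotient.mk t : Cyc.secFibre L x) = 0 ↔ _
    refine ⟨fun h hu => C1Indep.mk_ne_zero hL x ht (hu.smul_eq_zero.1 h), fun hn => ?_⟩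
    rw [← Submodule.Quotient.mk_smul, Submodule.Quotient.mk_eq_zero]
    exact Submodule.smul_mem_smul ((mem_maximalIdeal a).2 hn) trivial
  have hsupp : x ∈ i.ker.support ↔ x ∈ Set.range ⇑i := by
    rw [← SetLike.mem_coe, Scheme.Hom.support_ker]
    simp [i.isClosedEmbedding.isClosed_range.closure_eq]
  by_cases hx : x ∈ Set.range ⇑i
  · obtain ⟨d, rfl⟩ := hx
    obtain ⟨t', a', ht', hs', hker⟩ := hD.2 d
    obtain ⟨U, hU, hxU, -⟩ := exists_isAffineOpen_mem_and_subset (show i d ∈ (⊤ : X.Opens) from trivial)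
    rw [stalkIdeal_eq i.ker ⟨U, hU⟩ hxU, ← PP.GysPush.ker_stalkMap_eq i ⟨U, hU⟩ d hxU, hker]
    obtain ⟨c, hc⟩ := Submodule.mem_span_singleton.1
      (show t' ∈ Submodule.span (X.presheaf.stalk (i d)) {t} by rw [ht]; trivial)
    obtain ⟨c', hc'⟩ := Submodule.mem_span_singleton.1
      (show t ∈ Submodule.span (X.presheaf.stalk (i d)) {t'} by rw [ht']; trivial)
    have hfree : ∀ b : X.presheaf.stalk (i d), b • t = 0 → b = 0 := by
      obtain ⟨t₀, ht₀, hf⟩ := C1Indep.exists_free_gen hL (i d)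
      obtain ⟨e, he⟩ := Submodule.mem_span_singleton.1
        (show t₀ ∈ Submodule.span (X.presheaf.stalk (i d)) {t} by rw [ht]; trivial)
      intro b hb
      exact hf b (by rw [← he, smul_comm, hb, smul_zero])
    have ha : a = a' * c := by
      refine sub_eq_zero.1 (hfree _ ?_)
      rw [sub_smul, mul_smul, hc, ← hs, ← hs', sub_self]
    have hcu : IsUnit c := IsUnit.of_mul_eq_one c' (by
      refine sub_eq_zero.1 (hfree _ ?_)
      rw [sub_smul, one_smul, mul_comm, mul_smul, hc, hc', sub_self])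
    rw [ha, Ideal.span_singleton_mul_right_unit hcu]
  · rw [(ModelFibre.StalkIdeal.stalkIdeal_eq_top_iff _ x).2 (mt hsupp.1 hx),
      Ideal.span_singleton_eq_top.2 (by_contra fun hn => hx (hrange.2 hn))]

end Groth.Agent.Lib.Cyc.Deform
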