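import Groth.Agent.Lib.Cyc.Deform.Glue
import Groth.Agent.Lib.Cyc.Deform.Ideal
import Groth.Agent.Lib.Cyc.Gys.PullZero
import Groth.Agent.Lib.Cyc.Gys.Closed
import Groth.Agent.Lib.SurfInt.Div

/-!
# The global sections `T` and `U`
-/

set_option autoImplicit false
set_option linter.style.haveILetI false
universe u

noncomputable section

open CategoryTheory CategoryTheory.Limits AlgebraicGeometry TopologicalSpace Opposite

namespace Groth.Agent.Lib.Cyc.Deform

open Groth.Agent.Lib Groth.Agent.Lib.Cyc Groth.Agent.Lib.TensorMod.Gen Groth.Agent.Lib.TensorMod.Dual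
  Groth.Agent.Lib.Modules.StalkModule

/-- The germ of a function on an affine scheme. -/
def gR (R : CommRingCat.{u}) (q : Spec R) : R →+* (Spec R).presheaf.stalk q :=
  ((Spec R).presheaf.germ ⊤ q trivial).hom.comp (Scheme.ΓSpecIso R).inv.hom

theorem gR_map {R S : CommRingCat.{u}} (φ : R ⟶ S) (q : Spec S) (r : R) :
    (Spec.map φ).stalkMap q (gR R (Spec.map φ q) r) = gR S q (φ.hom r) :=
  (Scheme.Hom.germ_stalkMap_apply (Spec.map φ) ⊤ q trivial ((Scheme.ΓSpecIso R).inv r)).trans
    (congrArg ((Spec S).presheaf.germ ⊤ q trivial)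
      (ConcreteCategory.congr_hom (Scheme.ΓSpecIso_inv_naturality φ) r).symm)

theorem stalkMap_germ_congr {P Q : Scheme.{u}} {a b : P ⟶ Q} (h : a = b) (W : Q.Opens) (q : P)
    (ha : a q ∈ W) (r : Γ(Q, W)) :
    a.stalkMap q (Q.presheaf.germ W (a q) ha r) =
      b.stalkMap q (Q.presheaf.germ W (b q) (h ▸ ha) r) := by
  subst h
  rfl

theorem stalkMap_comp_germ {P Q R : Scheme.{u}} (a : P ⟶ Q) (b : Q ⟶ R) (W : R.Opens) (q : P)
    (h : b (a q) ∈ W) (r : Γ(R, W)) :
    (a ≫ b).stalkMap q (R.presheaf.germ W ((a ≫ b) q) h r) =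
      a.stalkMap q (b.stalkMap (a q) (R.presheaf.germ W (b (a q)) h r)) := by
  rw [Scheme.Hom.stalkMap_comp]
  rfl

variable {X : Scheme.{u}} {L : X.Modules} (s : L.presheaf.obj (op ⊤)) (hL : PicF.IsInvertible L)

/-- The coordinate ring of a chart. -/
abbrev RU (U : Idx L) : CommRingCat.{u} := CommRingCat.of (Rel (coef s U))

/-- The image of a chart. -/
abbrev W (U : Idx L) : (space s hL).Opens := (chart s hL U).opensRange

/-- A function on a chart. -/
def fn (U : Idx L) (r : RU s U) : Γ(space s hL, W s hL U) :=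
  (space s hL).presheaf.map (eqToHom (chart s hL U).image_top_eq_opensRange.symm).op
    (((chart s hL U).appIso ⊤).inv ((Scheme.ΓSpecIso (RU s U)).inv r))

theorem stalkMap_fn (U : Idx L) (r : RU s U) (q : Spec (RU s U)) (hq : chart s hL U q ∈ W s hL U) :
    (chart s hL U).stalkMap q ((space s hL).presheaf.germ (W s hL U) _ hq (fn s hL U r)) =
      gR (RU s U) q r := by
  rw [fn, TopCat.Presheaf.germ_res_apply]
  refine (Scheme.Hom.germ_stalkMap_apply (chart s hL U) _ q _ _).trans ?_
  have e := ConcreteCategory.congr_hom (Scheme.Hom.appIso_inv_app (chart s hL U) ⊤)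
    ((Scheme.ΓSpecIso (RU s U)).inv r)
  simp only [CommRingCat.comp_apply] at e
  refine (congrArg ((Spec (RU s U)).presheaf.germ (chart s hL U ⁻¹ᵁ chart s hL U ''ᵁ ⊤) q
    ⟨q, trivial, rfl⟩) e).trans ?_
  exact TopCat.Presheaf.germ_res_apply _ _ _ _ _

theorem W_mono {U V : Idx L} (h : V.1 ≤ U.1) : W s hL V ≤ W s hL U := by
  rw [W, W, ← preimage_proj, ← preimage_proj]
  exact fun x hx => h hx

theorem W_eq (U : Idx L) : W s hL U = proj s hL ⁻¹ᵁ U.1 := (preimage_proj s hL U).symm

theorem stalkMap_fn_of_le {U V : Idx L} (h : V.1 ≤ U.1) (r : RU s U) (q : Spec (RU s V))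
    (hq : chart s hL V q ∈ W s hL U) :
    (chart s hL V).stalkMap q ((space s hL).presheaf.germ (W s hL U) _ hq (fn s hL U r)) =
      gR (RU s V) q (ringMap s h r) := by
  refine (stalkMap_germ_congr (chart_w s hL h).symm _ q hq _).trans
    ((stalkMap_comp_germ _ _ _ q _ _).trans ?_)
  exact (congrArg _ (stalkMap_fn s hL U r _ _)).trans (gR_map _ q r)

theorem fn_res {U V : Idx L} (h : V.1 ≤ U.1) (r : RU s U) {x : space s hL} (hx : x ∈ W s hL V) :
    (space s hL).presheaf.germ (W s hL U) x (W_mono s hL h hx) (fn s hL U r) =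
      (space s hL).presheaf.germ (W s hL V) x hx (fn s hL V (ringMap s h r)) := by
  obtain ⟨q, rfl⟩ := hx
  refine (ConcreteCategory.bijective_of_isIso ((chart s hL V).stalkMap q)).1 ?_
  rw [stalkMap_fn_of_le s hL h, stalkMap_fn]

theorem proj_germ (V : Idx L) (c : Γ(X, V.1)) {x : space s hL} (hx : x ∈ W s hL V) :
    (proj s hL).stalkMap x (X.presheaf.germ V.1 (proj s hL x) ((W_eq s hL V).le hx) c) =
      (space s hL).presheaf.germ (W s hL V) x hx (fn s hL V (Rel.str (coef s V) c)) := by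
  obtain ⟨q, rfl⟩ := hx
  refine (ConcreteCategory.bijective_of_isIso ((chart s hL V).stalkMap q)).1 ?_
  rw [stalkMap_fn, ← CommRingCat.comp_apply, ← Scheme.Hom.stalkMap_comp]
  refine (stalkMap_germ_congr (chart_proj s hL V) V.1 q ((W_eq s hL V).le ⟨q, rfl⟩) c).trans ?_
  refine (stalkMap_comp_germ _ _ _ q _ _).trans ?_
  refine Eq.trans (congrArg _ ?_) (gR_map (CommRingCat.ofHom (Rel.str (coef s V))) q c)
  refine (Scheme.Hom.germ_stalkMap_apply V.2.1.fromSpec V.1 _ _ c).trans ?_
  rw [IsAffineOpen.fromSpec_app_self, CommRingCat.comp_apply, TopCat.Presheaf.germ_res_apply]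
  rfl

/-- A family of chart coefficients glues to a section. -/
theorem exists_glue (M : (space s hL).Modules) (gen : ∀ U : Idx L, Γ(M, W s hL U)) (r : ∀ U : Idx L, RU s U)
    (hc : ∀ {U V : Idx L} (h : V.1 ≤ U.1) (x : space s hL) (hx : x ∈ W s hL V),
      M.presheaf.germ (W s hL U) x (W_mono s hL h hx) (fn s hL U (r U) • gen U) =
        M.presheaf.germ (W s hL V) x hx (fn s hL V (r V) • gen V)) :
    ∃ m : M.presheaf.obj (op ⊤), ∀ (U : Idx L) (x : space s hL) (hx : x ∈ W s hL U),
      M.presheaf.germ ⊤ x trivial m =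
        (space s hL).presheaf.germ (W s hL U) x hx (fn s hL U (r U)) •
          M.presheaf.germ (W s hL U) x hx (gen U) := by
  let F : TopCat.Sheaf Ab.{u} (space s hL) := ⟨M.presheaf, M.isSheaf⟩
  obtain ⟨m, hm, -⟩ := F.existsUnique_gluing' (W s hL) ⊤ (fun U => homOfLE le_top)
    (fun x _ => by
      obtain ⟨U, q, hq⟩ := exists_chart s hL x
      exact Opens.mem_iSup.2 ⟨U, q, hq⟩)
    (fun U => fn s hL U (r U) • gen U) fun U U' => by
      refine TopCat.Presheaf.section_ext F _ _ _ fun x hx => ?_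
      erw [TopCat.Presheaf.germ_res_apply, TopCat.Presheaf.germ_res_apply]
      obtain ⟨V, hxV, hV⟩ := Idx.exists_mem hL
        (show proj s hL x ∈ U.1 ⊓ U'.1 from ⟨(W_eq s hL U).le hx.1, (W_eq s hL U').le hx.2⟩)
      exact (hc (hV.trans inf_le_left) x ((W_eq s hL V).ge hxV)).trans
        (hc (hV.trans inf_le_right) x ((W_eq s hL V).ge hxV)).symm
  refine ⟨m, fun U x hx => ?_⟩
  rw [← germ_smul, ← hm U]
  exact (TopCat.Presheaf.germ_res_apply M.presheaf (homOfLE le_top) x hx m).symm

/-- The section `T`. -/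
theorem exists_T : ∃ τ : (Coh.structureModule (space s hL)).presheaf.obj (op ⊤),
    ∀ (U : Idx L) (q : Spec (RU s U)), ∃ (a : (space s hL).presheaf.stalk (chart s hL U q))
      (t : (Coh.structureModule (space s hL)).presheaf.stalk (chart s hL U q)),
      Submodule.span ((space s hL).presheaf.stalk (chart s hL U q)) {t} = ⊤ ∧
      (Coh.structureModule (space s hL)).presheaf.germ ⊤ _ trivial τ = a • t ∧
      (chart s hL U).stalkMap q a = gR (RU s U) q (Rel.T (coef s U)) := by
  obtain ⟨m, hm⟩ := exists_glue s hL (Coh.structureModule (space s hL)) (fun U => one _ _)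
    (fun U => Rel.T (coef s U)) fun {U V} h x hx => by
      rw [germ_smul, germ_smul, fn_res s hL h _ hx, ringMap, Rel.map_T,
        C1.germ_one, C1.germ_one]
  refine ⟨m, fun U q => ⟨(space s hL).presheaf.germ (W s hL U) _ ⟨q, rfl⟩ (fn s hL U (Rel.T (coef s U))),
    C1.one _, C1.span_one _, (hm U _ ⟨q, rfl⟩).trans ?_, stalkMap_fn s hL U _ q _⟩⟩
  rw [C1.germ_one]

/-- The section `U`. -/
theorem exists_U : ∃ υ : ((Scheme.Modules.pullback (proj s hL)).obj L).presheaf.obj (op ⊤),
    ∀ (U : Idx L) (q : Spec (RU s U)), ∃ (a : (space s hL).presheaf.stalk (chart s hL U q))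
      (t : ((Scheme.Modules.pullback (proj s hL)).obj L).presheaf.stalk (chart s hL U q)),
      Submodule.span ((space s hL).presheaf.stalk (chart s hL U q)) {t} = ⊤ ∧
      ((Scheme.Modules.pullback (proj s hL)).obj L).presheaf.germ ⊤ _ trivial υ = a • t ∧
      (chart s hL U).stalkMap q a = gR (RU s U) q (Rel.U (coef s U)) := by
  let g := proj s hL
  let M := (Scheme.Modules.pullback g).obj L
  let η : ∀ U : Idx L, Γ(M, W s hL U) := fun U =>
    rs M (W_eq s hL U).le (TensorMod.Pullback.unitSec g L U.e)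
  have hη : ∀ (U : Idx L) (x : space s hL) (hx : x ∈ W s hL U), M.presheaf.germ (W s hL U) x hx (η U) =
      DerivedOX.PullbackStalk.unitStalk g x L (L.presheaf.germ U.1 (g x) ((W_eq s hL U).le hx) U.e) := by
    intro U x hx
    refine (TopCat.Presheaf.germ_res_apply M.presheaf (homOfLE (W_eq s hL U).le) x hx _).trans ?_
    refine Eq.symm ((congrArg (DerivedOX.PullbackStalk.pushStalkMap g x _)
      (stalkMapₗ_germ ((Scheme.Modules.pullbackPushforwardAdjunction g).unit.app L) (U := U.1)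
        ((W_eq s hL U).le hx) U.e)).trans ?_)
    exact DerivedOX.PullbackStalk.pushStalkMap_germ g x M (U := U.1) ((W_eq s hL U).le hx) _
  have hsmul : ∀ (x : space s hL) (a : X.presheaf.stalk (g x)) (t : L.presheaf.stalk (g x)),
      DerivedOX.PullbackStalk.unitStalk g x L (a • t) =
        (g.stalkMap x).hom a • DerivedOX.PullbackStalk.unitStalk g x L t :=
    fun x a t => map_smul (DerivedOX.PullbackStalk.unitStalk g x L).hom a t
  obtain ⟨m, hm⟩ := exists_glue s hL M η
    (fun U => Rel.U (coef s U)) fun {U V} h x hx => by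
      have hxV : g x ∈ V.1 := (W_eq s hL V).le hx
      have he : L.presheaf.germ U.1 (g x) (h hxV) U.e =
          X.presheaf.germ V.1 (g x) hxV (tr h : Γ(X, V.1)) • L.presheaf.germ V.1 (g x) hxV V.e := by
        rw [← germ_smul, tr_spec]
        exact (TopCat.Presheaf.germ_res_apply L.presheaf (homOfLE h) (g x) hxV U.e).symm
      rw [germ_smul, germ_smul, fn_res s hL h _ hx, hη U, hη V, he, hsmul]
      refine (smul_smul (M := (space s hL).presheaf.stalk x) _ _ _).trans (congrArg (· • _) ?_)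
      rw [ringMap, Rel.map_U]
      obtain ⟨q, rfl⟩ := hx
      refine (ConcreteCategory.bijective_of_isIso ((chart s hL V).stalkMap q)).1 ?_
      show (chart s hL V).stalkMap q (_ * (proj s hL).stalkMap _ _) = _
      rw [map_mul, proj_germ s hL V _ ⟨q, rfl⟩, stalkMap_fn, stalkMap_fn, stalkMap_fn, ← map_mul]
      congr 1
      rw [mul_right_comm, ← map_mul, Units.inv_mul, map_one, one_mul]
  refine ⟨m, fun U q => ⟨_, _, ?_, hm U _ ⟨q, rfl⟩, stalkMap_fn s hL U _ q _⟩⟩
  rw [hη U]
  exact Gys.Closed.exists_gen_pullback g L _ _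
    (SurfInt.Div.span_germ_eq_top U.he ((W_eq s hL U).le ⟨q, rfl⟩)).1

end Groth.Agent.Lib.Cyc.Deform
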