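import Groth.Agent.Lib.Cyc.Deform.Ring
import Groth.Agent.H95.ZeroSch
import Mathlib.AlgebraicGeometry.RelativeGluing
import Mathlib.AlgebraicGeometry.Sites.SmallAffineZariski

/-!
# The space `T U = s`
-/

set_option autoImplicit false
universe u

noncomputable section

open CategoryTheory CategoryTheory.Limits AlgebraicGeometry TopologicalSpace Opposite

namespace Groth.Agent.Lib.Cyc.Deform

open Groth.Agent.Lib.TensorMod.Gen Groth.Agent.Lib.TensorMod.Dual

variable {X : Scheme.{u}} (L : X.Modules) (s : L.presheaf.obj (op ⊤))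

/-- Affine opens over which `L` is free. -/
abbrev Idx : Type u := {U : X.Opens // IsAffineOpen U ∧ ∃ e : Γ(L, U), IsGen L U e}

variable {L}

/-- The chosen generator. -/
def Idx.e (U : Idx L) : Γ(L, U.1) := U.2.2.choose

theorem Idx.he (U : Idx L) : IsGen L U.1 U.e := U.2.2.choose_spec

theorem Idx.exists_mem (hL : PicF.IsInvertible L) {W : X.Opens} {x : X} (hx : x ∈ W) :
    ∃ U : Idx L, x ∈ U.1 ∧ U.1 ≤ W := by
  obtain ⟨F, hxF, hFW⟩ := H95.ZeroSch.exists_frame hL hx
  exact ⟨⟨F.V.1, F.V.2, F.e, F.he⟩, hxF, hFW⟩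

theorem Idx.cancel (U : Idx L) {a b : Γ(X, U.1)} (h : a • U.e = b • U.e) : a = b :=
  (U.he U.1 le_rfl).1 (by simpa only [rs_self] using h)

theorem Idx.exists_smul (U : Idx L) (m : Γ(L, U.1)) : ∃ a : Γ(X, U.1), a • U.e = m := by
  obtain ⟨a, ha⟩ := (U.he U.1 le_rfl).2 m
  exact ⟨a, by simpa only [rs_self] using ha⟩

/-- The coefficient of the section. -/
def coef (U : Idx L) : Γ(X, U.1) := (U.exists_smul (rs L le_top s)).choose

theorem coef_spec (U : Idx L) : coef s U • U.e = rs L le_top s :=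
  (U.exists_smul (rs L le_top s)).choose_spec

/-- Restriction of functions. -/
abbrev res {U V : X.Opens} (h : V ≤ U) : Γ(X, U) →+* Γ(X, V) := (X.presheaf.map (homOfLE h).op).hom

theorem Idx.exists_unit {U V : Idx L} (h : V.1 ≤ U.1) :
    ∃ v : Γ(X, V.1)ˣ, (v : Γ(X, V.1)) • V.e = rs L h U.e := by
  obtain ⟨c, hc⟩ := V.exists_smul (rs L h U.e)
  obtain ⟨d, hd⟩ := (U.he V.1 h).2 V.e
  have hd' : d • rs L h U.e = V.e := hd
  refine ⟨Units.mkOfMulEqOne c d (V.cancel ?_), hc⟩
  rw [mul_comm, mul_smul, hc, hd', one_smul]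

/-- The transition units. -/
def tr {U V : Idx L} (h : V.1 ≤ U.1) : Γ(X, V.1)ˣ := (Idx.exists_unit h).choose

theorem tr_spec {U V : Idx L} (h : V.1 ≤ U.1) : (tr h : Γ(X, V.1)) • V.e = rs L h U.e :=
  (Idx.exists_unit h).choose_spec

theorem tr_refl (U : Idx L) (h : U.1 ≤ U.1) : tr h = 1 :=
  Units.ext (U.cancel (by rw [tr_spec, Units.val_one, one_smul, rs_self]))

theorem tr_trans {U V W : Idx L} (h : V.1 ≤ U.1) (h' : W.1 ≤ V.1) :
    res h' (tr h : Γ(X, V.1)) * (tr h' : Γ(X, W.1)) = (tr (h'.trans h) : Γ(X, W.1)) :=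
  W.cancel (by rw [mul_smul, tr_spec, tr_spec, ← rs_smul, tr_spec, rs_rs])

theorem coef_res {U V : Idx L} (h : V.1 ≤ U.1) :
    res h (coef s U) * (tr h : Γ(X, V.1)) = coef s V :=
  V.cancel (by rw [mul_smul, tr_spec, ← rs_smul, coef_spec, coef_spec, rs_rs])

/-- The rings of the charts. -/
def ringMap {U V : Idx L} (h : V.1 ≤ U.1) : Rel (coef s U) →+* Rel (coef s V) :=
  Rel.map (res h) (tr h) (coef_res s h)

theorem ringMap_refl (U : Idx L) (h : U.1 ≤ U.1) : ringMap s h = RingHom.id _ := by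
  have hr : res h = RingHom.id Γ(X, U.1) := by
    rw [res, show homOfLE h = 𝟙 U.1 from Subsingleton.elim _ _, op_id, X.presheaf.map_id]
    rfl
  refine Rel.hom_ext (fun r => ?_) ?_ ?_
  · rw [ringMap, Rel.map_str, hr]; rfl
  · rw [ringMap, Rel.map_T]; rfl
  · rw [ringMap, Rel.map_U, tr_refl, inv_one, Units.val_one, map_one, one_mul]; rfl

theorem ringMap_trans {U V W : Idx L} (h : V.1 ≤ U.1) (h' : W.1 ≤ V.1) :
    (ringMap s h').comp (ringMap s h) = ringMap s (h'.trans h) := by
  have hr : (res h').comp (res h) = res (h'.trans h) := by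
    rw [res, res, res, ← CommRingCat.hom_comp, ← X.presheaf.map_comp]
    exact congrArg (fun k => (X.presheaf.map k).hom) (Subsingleton.elim _ _)
  refine (Rel.map_map _ _ _ _ (tr (h'.trans h)) _ _ ?_ (tr_trans h h')).trans ?_
  · rw [hr]; exact coef_res s _
  · unfold ringMap
    congr 1

variable (L) in
/-- The cover by trivialising affine opens. -/
@[simps] abbrev cover (hL : PicF.IsInvertible L) : X.OpenCover where
  I₀ := Idx L
  X U := U.1
  f U := U.1.ι
  mem₀ := by
    rw [Scheme.presieve₀_mem_precoverage_iff]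
    refine ⟨fun x => ?_, inferInstance⟩
    obtain ⟨U, hxU, -⟩ := Idx.exists_mem hL (show x ∈ (⊤ : X.Opens) from trivial)
    exact ⟨U, ⟨x, hxU⟩, rfl⟩

variable (hL : PicF.IsInvertible L)

instance : (cover L hL).LocallyDirected where
  trans {U V} f := X.homOfLE (show (show Idx L from U).1 ≤ (show Idx L from V).1 from leOfHom f)
  trans_id U := by exact X.homOfLE_rfl _
  trans_comp f g := by exact (X.homOfLE_homOfLE _ _).symm
  w f := by exact X.homOfLE_ι _
  directed {U V} x := by
    let a := (pullback.fst _ _ ≫ U.1.ι) x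
    have haU : a ∈ U.1 := (pullback.fst U.1.ι V.1.ι x).2
    have haV : a ∈ V.1 := by
      unfold a; erw [pullback.condition]; exact (pullback.snd U.1.ι V.1.ι x).2
    obtain ⟨W, haW, hW⟩ := Idx.exists_mem hL (show a ∈ U.1 ⊓ V.1 from ⟨haU, haV⟩)
    refine ⟨W, homOfLE (show W ≤ U from hW.trans inf_le_left),
      homOfLE (show W ≤ V from hW.trans inf_le_right), ⟨a, haW⟩, ?_⟩
    apply (pullback.fst _ _ ≫ U.1.ι).isOpenEmbedding.injective
    change (pullback.lift _ _ _ ≫ pullback.fst _ _ ≫ U.1.ι) _ = _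
    erw [pullback.lift_fst_assoc, X.homOfLE_ι]
    rfl

/-- The charts. -/
def chartFunctor : Idx L ⥤ Scheme.{u} where
  obj U := Spec (CommRingCat.of (Rel (coef s U)))
  map {V U} f := Spec.map (CommRingCat.ofHom (ringMap s (leOfHom f)))
  map_id U := by
    rw [ringMap_refl]
    exact Spec.map_id _
  map_comp {W V U} f g := by
    rw [← Spec.map_comp, ← CommRingCat.ofHom_comp, ringMap_trans]

/-- Their structure maps. -/
def chartStr (U : Idx L) : Spec (CommRingCat.of (Rel (coef s U))) ⟶ U.1 :=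
  Spec.map (CommRingCat.ofHom (Rel.str (coef s U))) ≫ U.2.1.isoSpec.inv

theorem chartStr_ι (U : Idx L) :
    chartStr s U ≫ U.1.ι = Spec.map (CommRingCat.ofHom (Rel.str (coef s U))) ≫ U.2.1.fromSpec := by
  rw [chartStr, Category.assoc, IsAffineOpen.isoSpec_inv_ι]

theorem isPullback_chart {U V : Idx L} (h : V.1 ≤ U.1) :
    IsPullback (Spec.map (CommRingCat.ofHom (ringMap s h))) (chartStr s V) (chartStr s U) (X.homOfLE h) := by
  have h1 := isPullback_SpecMap_of_isPushout _ _ _ _
    (Rel.isPushout (res h) (tr h) (coef_res s h))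
  have h2 : IsPullback (Spec.map (CommRingCat.ofHom (res h))) V.2.1.isoSpec.inv U.2.1.isoSpec.inv
      (X.homOfLE h) := by
    refine IsPullback.of_vert_isIso ⟨?_⟩
    rw [← cancel_mono U.1.ι, Category.assoc, Category.assoc, X.homOfLE_ι,
      IsAffineOpen.isoSpec_inv_ι, IsAffineOpen.isoSpec_inv_ι]
    exact U.2.1.map_fromSpec V.2.1 (homOfLE h).op
  exact h1.flip.paste_vert h2

/-- The gluing data. -/
def glue : (cover L hL).RelativeGluingData where
  functor := chartFunctor s
  natTrans :=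
    { app := fun U => chartStr s U
      naturality := fun V U f => (isPullback_chart s (leOfHom f)).w }
  equifibered := fun V U f => isPullback_chart s (leOfHom f)

instance : ((glue s hL).functor ⋙ Scheme.forget).IsLocallyDirected :=
  Scheme.Cover.RelativeGluingData.instIsLocallyDirectedI₀CompFunctorForgetOfIsThin ..

/-- The space. -/
def space : Scheme.{u} := (glue s hL).glued

/-- The projection. -/
def proj : space s hL ⟶ X := (glue s hL).toBase

/-- The chart over an open. -/
def chart (U : Idx L) : Spec (CommRingCat.of (Rel (coef s U))) ⟶ space s hL := (glue s hL).cover.f U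

instance (U : Idx L) : IsOpenImmersion (chart s hL U) := (glue s hL).cover.map_prop U

theorem chart_w {U V : Idx L} (h : V.1 ≤ U.1) :
    Spec.map (CommRingCat.ofHom (ringMap s h)) ≫ chart s hL U = chart s hL V :=
  colimit.w (glue s hL).functor (homOfLE h : V ⟶ U)

theorem chart_proj (U : Idx L) :
    chart s hL U ≫ proj s hL = Spec.map (CommRingCat.ofHom (Rel.str (coef s U))) ≫ U.2.1.fromSpec := by
  rw [← chartStr_ι]
  exact (glue s hL).ι_toBase U

theorem preimage_proj (U : Idx L) : proj s hL ⁻¹ᵁ U.1 = (chart s hL U).opensRange := by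
  have := (glue s hL).toBase_preimage_eq_opensRange_ι U
  exact (congrArg (proj s hL ⁻¹ᵁ ·) (Scheme.Opens.opensRange_ι U.1).symm).trans this

theorem isPullback_proj (U : Idx L) :
    IsPullback (chart s hL U) (Spec.map (CommRingCat.ofHom (Rel.str (coef s U)))) (proj s hL)
      U.2.1.fromSpec := by
  have h := (glue s hL).isPullback_natTrans_ι_toBase U
  refine h.flip.of_iso (Iso.refl _) (Iso.refl _) U.2.1.isoSpec (Iso.refl _) ?_ ?_ ?_ ?_
  · simp [chart]
    rfl
  · show chartStr s U ≫ U.2.1.isoSpec.hom = 𝟙 _ ≫ _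
    simp [chartStr]
  · simp [proj]
    rfl
  · show U.1.ι ≫ 𝟙 X = U.2.1.isoSpec.hom ≫ U.2.1.fromSpec
    rw [Category.comp_id, IsAffineOpen.isoSpec_hom, IsAffineOpen.toSpecΓ_fromSpec]

theorem exists_chart (x : space s hL) : ∃ (U : Idx L) (q : Spec (CommRingCat.of (Rel (coef s U)))),
    chart s hL U q = x := by
  obtain ⟨U, hU, -⟩ := Idx.exists_mem hL (show proj s hL x ∈ (⊤ : X.Opens) from trivial)
  have : x ∈ (chart s hL U).opensRange := by rw [← preimage_proj]; exact hU
  exact ⟨U, this⟩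

end Groth.Agent.Lib.Cyc.Deform
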