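import Groth.Agent.Lib.Cyc.AffFib.Affine
import Groth.Agent.Lib.Cyc.CH.Setup
import Groth.Agent.Lib.Cyc.FP.Main

/-!
# Morphisms which are locally affine lines
-/

set_option autoImplicit false
set_option linter.style.haveILetI false
universe u

noncomputable section

open CategoryTheory CategoryTheory.Limits AlgebraicGeometry

namespace Groth.Agent.Lib.Cyc.Deform.Line

open Groth.Agent.Lib Groth.Agent.Lib.Cyc

theorem isPushout_polynomial {B K : Type u} [CommRing B] [CommRing K] (φ : B →+* K) :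
    IsPushout (CommRingCat.ofHom φ) (CommRingCat.ofHom (Polynomial.C : B →+* Polynomial B))
      (CommRingCat.ofHom (Polynomial.C : K →+* Polynomial K))
      (CommRingCat.ofHom (Polynomial.mapRingHom φ)) := by
  have hc : CommRingCat.ofHom φ ≫ CommRingCat.ofHom (Polynomial.C : K →+* Polynomial K) =
      CommRingCat.ofHom (Polynomial.C : B →+* Polynomial B) ≫
        CommRingCat.ofHom (Polynomial.mapRingHom φ) := by
    ext r
    simp
  refine ⟨⟨hc⟩, ⟨PushoutCocone.IsColimit.mk hc
    (fun s => CommRingCat.ofHom (Polynomial.eval₂RingHom s.inl.hom (s.inr.hom Polynomial.X)))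
    (fun s => ?_) (fun s => ?_) fun s m h1 h2 => ?_⟩⟩
  · ext r
    simp
  · refine CommRingCat.hom_ext (Polynomial.ringHom_ext (fun r => ?_) ?_)
    · simpa using ConcreteCategory.congr_hom s.condition r
    · simp
  · refine CommRingCat.hom_ext (Polynomial.ringHom_ext (fun r => ?_) ?_)
    · simpa using ConcreteCategory.congr_hom h1 r
    · simpa using ConcreteCategory.congr_hom h2 Polynomial.X

/-- Local presentations as affine lines. -/
structure Charts {E D : Scheme.{u}} (p : E ⟶ D) where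
  ι : Type u
  B : ι → CommRingCat.{u}
  d : ∀ n, Spec (B n) ⟶ D
  opn : ∀ n, IsOpenImmersion (d n)
  surj : ∀ y : D, ∃ n b, d n b = y
  k : ∀ n, Spec (CommRingCat.of (Polynomial (B n))) ⟶ E
  sq : ∀ n, IsPullback (k n) (Spec.map (CommRingCat.ofHom (Polynomial.C : B n →+* Polynomial (B n)))) p (d n)

variable {E D : Scheme.{u}} {p : E ⟶ D}

theorem Charts.of (C : Charts p) {P : MorphismProperty Scheme.{u}} [IsZariskiLocalAtTarget P]
    (h : ∀ B : CommRingCat.{u}, P (Spec.map (CommRingCat.ofHom (Polynomial.C : B →+* Polynomial B)))) :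
    P p := by
  haveI := C.opn
  let 𝒰 : D.OpenCover :=
    { I₀ := C.ι
      X := fun n => Spec (C.B n)
      f := C.d
      mem₀ := by
        rw [Scheme.presieve₀_mem_precoverage_iff]
        exact ⟨fun y => C.surj y, fun n => C.opn n⟩ }
  refine IsZariskiLocalAtTarget.of_openCover 𝒰 fun n => ?_
  show P (pullback.snd p (C.d n))
  rw [← (C.sq n).isoPullback_inv_snd]
  exact (MorphismProperty.cancel_left_of_respectsIso P _ _).2 (h (C.B n))

theorem Charts.flat (C : Charts p) : Flat p := C.of fun B => by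
  rw [HasRingHomProperty.Spec_iff (P := @Flat)]
  exact (RingHom.flat_algebraMap_iff (R := B) (S := Polynomial B)).2 inferInstance

theorem Charts.lft (C : Charts p) : LocallyOfFiniteType p := C.of fun B => by
  rw [HasRingHomProperty.Spec_iff (P := @LocallyOfFiniteType)]
  exact (RingHom.finiteType_algebraMap (A := B) (B := Polynomial B)).2 inferInstance

theorem Charts.quasiCompact (C : Charts p) : QuasiCompact p := C.of fun _ => inferInstance

variable {δE : E → ℤ} {δD : D → ℤ}

theorem Charts.exists_gen (C : Charts p) (hE : Cyc.IsSetup E δE) (η : D) :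
    ∃ ζ : E, p ζ = η ∧ Residue.trdegAt p ζ = 1 ∧ FibLen.fibLen p ζ = 1 ∧
      ∀ x : E, p x = η → ζ ⤳ x ∧ (x ≠ ζ → AffFib.Descent.KilledInFibre p δE x) := by
  haveI := hE.1
  obtain ⟨n, b, rfl⟩ := C.surj η
  haveI := C.opn n
  let K := (Spec (C.B n)).residueField b
  let φ : C.B n ⟶ K := Spec.preimage ((Spec (C.B n)).fromSpecResidueField b)
  have hφ : Spec.map φ = (Spec (C.B n)).fromSpecResidueField b := Spec.map_preimage _
  have h1 := isPullback_SpecMap_of_isPushout _ _ _ _ (isPushout_polynomial φ.hom)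
  rw [show CommRingCat.ofHom φ.hom = φ from rfl, hφ] at h1
  have H := h1.flip.paste_horiz (C.sq n)
  haveI : IsPreimmersion ((Spec (C.B n)).fromSpecResidueField b ≫ C.d n) := inferInstance
  have hη : ((Spec (C.B n)).fromSpecResidueField b ≫ C.d n)
      (genericPoint (Spec (CommRingCat.of K))) = C.d n b := by
    rw [Scheme.Hom.comp_apply]
    exact congrArg (C.d n) (Scheme.fromSpecResidueField_apply _ _)
  obtain ⟨ζ, -, hζ, hlen, htr, hall⟩ := AffFib.Fibre.exists_gen (L := K) H
    (AffFib.Affine.killsAll_polynomial_field K) hE.2.2 (C.d n b) hη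
  exact ⟨ζ, hζ, htr.trans (AffFib.Affine.trdegAt_generic_polynomial K), hlen, hall⟩

theorem Charts.trdegAt_eq (C : Charts p) (hE : Cyc.IsSetup E δE) (x : E) (hx : FibLen.IsMaxFib p x) :
    Residue.trdegAt p x = 1 := by
  obtain ⟨ζ, hζ, htr, -, hall⟩ := C.exists_gen hE (p x)
  rw [← hx ζ hζ (hall x rfl).1, htr]

theorem Charts.hasRelDim (C : Charts p) (hE : Cyc.IsSetup E δE) : Cyc.HasRelDim p 1 := by
  haveI := C.lft
  exact FieldDim.hasRelDim_of_forall p fun x hx => by rw [C.trdegAt_eq hE x hx, Nat.cast_one]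

theorem Charts.data (C : Charts p) (hE : Cyc.IsSetup E δE) (hc : Cyc.DeltaCompat p δE δD) :
    AffFib.Descent.Data p δE δD 1 := by
  haveI := hE.1
  haveI := C.lft
  refine ⟨fun x => Residue.deltaY_le hc x, fun η => ?_⟩
  obtain ⟨ζ, hζ, -, hlen, hall⟩ := C.exists_gen hE η
  refine ⟨ζ, hζ, ?_, hlen, hall⟩
  rw [← hζ]
  exact_mod_cast FieldDim.delta_eq_of_hasRelDim p (C.hasRelDim hE) hc ζ
    ((FibLen.fibLen_ne_top_iff p ζ).1 (by rw [hlen]; exact ENat.one_ne_top))

end Groth.Agent.Lib.Cyc.Deform.Line
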