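import Groth.Agent.Lib.Cyc.Deform.Props
import Groth.Agent.Lib.Cyc.CH.SecInv
import Groth.Agent.Lib.Cyc.CH.GysUnique
import Groth.Agent.Lib.Cyc.CH.Restrict
import Groth.Agent.Lib.Cyc.CH.GysSelf
import Groth.Agent.Lib.Cyc.Gys.Commute

/-!
# The deformation respects the Gysin operators
-/

set_option autoImplicit false
set_option linter.style.haveILetI false
universe u

noncomputable section

open CategoryTheory CategoryTheory.Limits AlgebraicGeometry

namespace Groth.Agent.Lib.Cyc.Deform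

open Groth.Agent.Lib Groth.Agent.Lib.Cyc Groth.Agent.Lib.Cyc.CH Groth.Agent.Lib.Cyc.Gys.Commute

section Sec

variable {F D : Scheme.{u}} [IsLocallyNoetherian F] [IsLocallyNoetherian D] (q : F ⟶ D) (z : D ⟶ F)
  [IsClosedImmersion z] [Flat q] [LocallyOfFiniteType q] {δ : F → ℤ} {δD : D → ℤ} {N : F.Modules}
  {s : N.presheaf.obj (Opposite.op ⊤)}

/-- The Gysin map of a section inverts pullback. -/
theorem gys_sec (hz : z ≫ q = 𝟙 D) (hN : PicF.IsInvertible N) (hD : Cyc.IsZeroSchemeOf z N s)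
    {w : (ξ : F) → Cyc.secFibre N ξ} (hw : ∀ ξ, w ξ ≠ 0) (hδ : Cyc.IsDimFun F δ)
    (hY : Cyc.IsDimFun D δD) (hshift : FP.Main.Shift q δ δD 1) (e : δD = fun d => δ (z d))
    (x : Tot D δD) :
    gys z hδ hN hD hw (pull hδ hY q hshift x) = cast e x := by
  refine DFunLike.congr_fun (hom_ext (A := (gys z hδ hN hD hw).comp (pull hδ hY q hshift))
    (B := cast e) fun k α hα => ?_) x
  obtain ⟨β, hβ, e1⟩ := PullExists.exists_pullFun (δX := δ) q 1 hα
  have hα' : α ∈ Cyc.Zk D (fun d => δ (z d)) k := e ▸ hα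
  show gys z hδ hN hD hw (pull hδ hY q hshift _) = _
  rw [pull_cls hδ hY q hshift hα rfl hβ e1, cast_cls e hα hα']
  refine gys_cls z hδ hN hD hw hβ (by ring) hα' fun d => ?_
  rw [e1]
  exact (CH.SecInv.gys_pull_eq q z hz hN hD hw hδ hshift (fun d => (congrFun e d).symm) hα d).symm

theorem cast_trans_eq {E : Scheme.{u}} {δ₁ δ₂ δ₃ : E → ℤ} (e₁ : δ₁ = δ₂) (e₂ : δ₂ = δ₃) (e₃ : δ₁ = δ₃)
    (x : Tot E δ₁) : cast e₂ (cast e₁ x) = cast e₃ x := by
  subst e₁ e₂
  rfl

theorem cast_injective {E : Scheme.{u}} {δ₁ δ₂ : E → ℤ} (e : δ₁ = δ₂) :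
    Function.Injective (cast (E := E) e) := by
  subst e
  exact fun _ _ h => h

end Sec

section Surj

variable {E D : Scheme.{u}} [IsLocallyNoetherian E] [IsLocallyNoetherian D] (p : E ⟶ D) [Flat p]
  [QuasiCompact p] {δE : E → ℤ} {δD : D → ℤ}

theorem pull_surjective (hE : Cyc.IsDimFun E δE) (hY : Cyc.IsDimFun D δD) (hs : FP.Main.Shift p δE δD 1)
    (H : AffFib.Descent.Data p δE δD 1) (u : Tot E δE) : ∃ w, pull hE hY p hs w = u := by
  induction u using DirectSum.induction_on with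
  | zero => exact ⟨0, map_zero _⟩
  | add x y hx hy =>
    obtain ⟨a, rfl⟩ := hx
    obtain ⟨b, rfl⟩ := hy
    exact ⟨a + b, map_add _ _ _⟩
  | of k c =>
    obtain ⟨⟨β, hβ⟩, rfl⟩ := QuotientAddGroup.mk_surjective c
    obtain ⟨α, β', hα, e1, e2⟩ := AffFib.Descent.exists_pullback p hE hY H (k - 1)
      (show β ∈ Cyc.Zk E δE (k - 1 + 1) by rwa [sub_add_cancel])
    obtain ⟨β'', hβ'', e1'⟩ := PullExists.exists_pullFun (δX := δE) p 1 hα
    obtain rfl : β'' = β' := Function.locallyFinsuppWithin.ext fun x => congrFun (e1'.trans e1.symm) x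
    have hβ''' : β'' ∈ Cyc.Zk E δE k := by rwa [sub_add_cancel] at hβ''
    refine ⟨cls δD (k - 1) α hα, ?_⟩
    rw [sub_add_cancel] at e2
    rw [pull_cls hE hY p hs hα (sub_add_cancel k 1).symm hβ''' e1']
    exact (cls_eq_iff hE hβ''' hβ).2 (Ord.ratEquiv_symm hE e2)

end Surj

section Main

variable {X : Scheme.{u}} {L : X.Modules} {s : L.presheaf.obj (Opposite.op ⊤)} {hL : PicF.IsInvertible L}
  {D : Scheme.{u}} {i : D ⟶ X} [IsClosedImmersion i] (M : Model s hL i) {δ : X → ℤ}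
  {δ' : space s hL → ℤ}

include M in
/-- The deformation turns the Gysin map into a principal one. -/
theorem gys_eq (hX : Cyc.IsSetup X δ) (hD : Cyc.IsZeroSchemeOf i L s) (hX' : Cyc.IsSetup (space s hL) δ')
    (hg : Cyc.DeltaCompat (proj s hL) δ' δ) [IsClosedImmersion M.i'] [IsLocallyNoetherian X]
    [IsLocallyNoetherian D] [IsLocallyNoetherian (space s hL)] [IsLocallyNoetherian M.D']
    [Flat M.p] [LocallyOfFiniteType M.p] [QuasiCompact M.p]
    (hsg : FP.Main.Shift (proj s hL) δ' δ 1)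
    (hsp : FP.Main.Shift M.p (fun d => δ' (M.i' d)) (fun d => δ (i d)) 1)
    (hdata : AffFib.Descent.Data M.p (fun d => δ' (M.i' d)) (fun d => δ (i d)) 1)
    {w : (ξ : X) → Cyc.secFibre L ξ} (hw : ∀ ξ, w ξ ≠ 0)
    {w' : (ξ : space s hL) → Cyc.secFibre (Coh.structureModule (space s hL)) ξ} (hw' : ∀ ξ, w' ξ ≠ 0)
    (x : Tot X δ) :
    gys M.i' hX'.2.2 (PicLoc.isInvertible_structureModule _) M.hi' hw'
        (pull hX'.2.2 hX.2.2 (proj s hL) hsg x) =
      pull (Gys.Closed.isDimFun M.i' hX'.2.2) (Gys.Closed.isDimFun i hX.2.2) M.p hsp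
        (gys i hX.2.2 hL hD hw x) := by
  haveI := M.closed_jF
  haveI := M.closed_z
  haveI := M.closed_zF
  haveI := M.chartsQ.flat
  haveI := M.chartsQ.lft
  haveI := M.chartsQ.quasiCompact
  haveI : IsLocallyNoetherian M.F := LocallyOfFiniteType.isLocallyNoetherian M.jF
  have hX0 := hX.2.2
  have hδ' := hX'.2.2
  have hO := PicLoc.isInvertible_structureModule (space s hL)
  have hM : PicF.IsInvertible ((Scheme.Modules.pullback (proj s hL)).obj L) :=
    PicLoc.isInvertible_pullback (proj s hL) hL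
  have hMi := PicLoc.isInvertible_pullback M.i' hM
  have hOj := PicLoc.isInvertible_pullback M.jF hO
  have hδD := Gys.Closed.isDimFun i hX0
  have hδD' := Gys.Closed.isDimFun M.i' hδ'
  have hδF := Gys.Closed.isDimFun M.jF hδ'
  have hFs : Cyc.IsSetup M.F (fun f => δ' (M.jF f)) :=
    isSetup_of_deltaCompat M.jF hX' (PP.SubSetup.deltaCompat M.jF)
  have hcq : Cyc.DeltaCompat M.qF (fun f => δ' (M.jF f)) (fun d => δ (i d)) :=
    deltaCompat_of_comm (π := i) (π' := M.jF) (f := proj s hL) M.wq.symm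
      (PP.SubSetup.deltaCompat i) (PP.SubSetup.deltaCompat M.jF) hg
  have hsq : FP.Main.Shift M.qF (fun f => δ' (M.jF f)) (fun d => δ (i d)) 1 := by
    have := FP.Main.shift_of_hasRelDim M.qF (M.chartsQ.hasRelDim hFs) hcq
    exact_mod_cast this
  -- the sections
  have hsec : ∀ d : D, δ' (M.i' (M.z d)) = δ (i d) := fun d => by
    have e : (M.z ≫ M.i') ≫ proj s hL = i := by
      rw [Category.assoc, M.wp, ← Category.assoc, M.z_p, Category.id_comp]
    obtain ⟨n, hn, hn'⟩ := Residue.exists_trdegAt hg (M.i' (M.z d))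
    have h1 := trdegAt_closed (M.z ≫ M.i') (proj s hL) d
    rw [FieldDim.trdegAt_congr e d, FieldDim.trdegAt_eq_zero_of_surjective i _
      (FieldDim.residueFieldMap_surjective (f := i) _), Scheme.Hom.comp_apply, hn] at h1
    have hn0 : n = 0 := by exact_mod_cast h1.symm
    have h2 : proj s hL (M.i' (M.z d)) = i d := by
      rw [← Scheme.Hom.comp_apply, ← Scheme.Hom.comp_apply, ← Category.assoc, e]
    rw [h2] at hn'
    omega
  have hzF : ∀ d : D, δ' (M.jF (M.zF d)) = δ (i d) := fun d => by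
    rw [← Scheme.Hom.comp_apply, ← M.sq.w, Scheme.Hom.comp_apply, hsec]
  have ez : (fun d => δ (i d)) = fun d => δ' (M.i' (M.z d)) := funext fun d => (hsec d).symm
  have ezF : (fun d => δ (i d)) = fun d => δ' (M.jF (M.zF d)) := funext fun d => (hzF d).symm
  obtain ⟨w₁, hw₁⟩ := exists_sections hMi
  obtain ⟨w₂, hw₂⟩ := exists_sections hOj
  obtain ⟨wM, hwM⟩ := exists_sections hM
  let xg := pull hδ' hX0 (proj s hL) hsg x
  let a := gys M.jF hδ' hM M.hjF hwM xg
  let b := pull hδF hδD M.qF hsq (gys i hX0 hL hD hw x)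
  -- the difference lives on the section
  have hab : ∃ y, push (Gys.Closed.isDimFun M.zF hδF) hδF M.zF (PP.SubSetup.deltaCompat M.zF (δ := fun f => δ' (M.jF f))) y = a - b := by
    let V : (space s hL).Opens := ⟨(Set.range ⇑M.i')ᶜ, M.closed_i'.base_closed.isClosed_range.isOpen_compl⟩
    let v : (V : Scheme.{u}) ⟶ space s hL := V.ι
    have hoff := M.off v rfl
    let j0 := pullback.snd v M.jF
    haveI : IsLocallyNoetherian (V : Scheme.{u}) := LocallyOfFiniteType.isLocallyNoetherian v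
    haveI : IsLocallyNoetherian (pullback v M.jF : Scheme.{u}) :=
      LocallyOfFiniteType.isLocallyNoetherian j0
    have hZ : Set.range ⇑M.zF = (Set.range ⇑j0)ᶜ := by
      ext f
      have h1 : f ∈ Set.range ⇑M.zF ↔ M.jF f ∈ Set.range ⇑M.i' := by
        constructor
        · rintro ⟨d, rfl⟩
          exact ⟨M.z d, by rw [← Scheme.Hom.comp_apply, M.sq.w, Scheme.Hom.comp_apply]⟩
        · rintro ⟨e, he⟩
          obtain ⟨d, -, hd⟩ := Scheme.Pullback.exists_preimage_pullback (f := M.i') (g := M.jF) e f he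
          exact ⟨M.sq.isoPullback.inv d, by rw [← Scheme.Hom.comp_apply, M.sq.isoPullback_inv_snd, hd]⟩
      have h2 : f ∈ Set.range ⇑j0 ↔ M.jF f ∉ Set.range ⇑M.i' := by
        constructor
        · rintro ⟨e, rfl⟩
          rw [← Scheme.Hom.comp_apply, ← pullback.condition, Scheme.Hom.comp_apply]
          exact (pullback.fst v M.jF e).2
        · intro hf
          obtain ⟨e, -, he⟩ := Scheme.Pullback.exists_preimage_pullback (f := v) (g := M.jF)
            (⟨M.jF f, hf⟩ : V) f rfl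
          exact ⟨e, he⟩
      rw [Set.mem_compl_iff, h1, h2, not_not]
    refine exists_push_of_pull_eq_zero j0 M.zF hZ hδF ?_
    rw [map_sub, sub_eq_zero]
    have hδV := PP.OpenImm.isDimFun v hδ'
    have hLv := PicLoc.isInvertible_pullback (v ≫ proj s hL) hL
    haveI : IsLocallyNoetherian (pullback (v ≫ proj s hL) i : Scheme.{u}) :=
      LocallyOfFiniteType.isLocallyNoetherian (pullback.fst (v ≫ proj s hL) i)
    obtain ⟨σ, hσ⟩ := Gys.PullZero.exists_zeroSection v M.jF hM M.hjF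
    obtain ⟨σ₂, hσ₂⟩ := Gys.PullZero.exists_zeroSection (v ≫ proj s hL) i hL hD
    have hσ₂' : Cyc.IsZeroSchemeOf (pullback.fst v M.jF)
        ((Scheme.Modules.pullback (v ≫ proj s hL)).obj L) σ₂ :=
      isZeroSchemeOf_iso (pullback.fst (v ≫ proj s hL) i) (pullback.fst v M.jF) hoff.isoPullback.inv
        hoff.isoPullback_inv_fst hσ₂
    obtain ⟨wv, hwv⟩ := exists_sections (PicLoc.isInvertible_pullback v hM)
    obtain ⟨wv₂, hwv₂⟩ := exists_sections hLv
    have hsvg : FP.Main.Shift (v ≫ proj s hL) (fun u => δ' (v u)) δ 1 := fun y hy => by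
      rw [Scheme.Hom.comp_apply]
      exact hsg (v y) ((isMaxFib_openImm v (proj s hL) y).1 hy)
    have hc2 : FP.Main.Shift j0 (fun z => (fun u => δ' (v u)) (pullback.fst v M.jF z))
        (fun f => δ' (M.jF f)) 0 := fun z _ => by
      rw [add_zero]
      show δ' (v (pullback.fst v M.jF z)) = δ' (M.jF (j0 z))
      rw [← Scheme.Hom.comp_apply, pullback.condition, Scheme.Hom.comp_apply]
    have ej0 : (fun z => (fun f => δ' (M.jF f)) (j0 z)) =
        fun z => (fun u => δ' (v u)) (pullback.fst v M.jF z) := funext fun z => by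
      show δ' (M.jF (j0 z)) = δ' (v (pullback.fst v M.jF z))
      rw [← Scheme.Hom.comp_apply, ← Scheme.Hom.comp_apply, pullback.condition]
    have key : ∀ y, pull (PP.OpenImm.isDimFun j0 hδF) hδF j0 (shift_restrict j0 (δ := fun f => δ' (M.jF f))) y =
        Gys.Commute.cast ej0.symm (pull (Gys.Closed.isDimFun (pullback.fst v M.jF) hδV) hδF j0 hc2 y) := by
      have gen : ∀ (δ₁ δ₂ : ↥(pullback v M.jF) → ℤ) (e : δ₁ = δ₂) (h₁ : Cyc.IsDimFun _ δ₁)
          (h₂ : Cyc.IsDimFun _ δ₂) (c₁ : FP.Main.Shift j0 δ₁ (fun f => δ' (M.jF f)) 0)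
          (c₂ : FP.Main.Shift j0 δ₂ (fun f => δ' (M.jF f)) 0) y,
          pull h₁ hδF j0 c₁ y = Gys.Commute.cast e.symm (pull h₂ hδF j0 c₂ y) := by
        intro δ₁ δ₂ e h₁ h₂ c₁ c₂ y
        subst e
        rfl
      exact gen _ _ ej0 _ _ _ _
    rw [key, key]
    congr 1
    rw [← gys_pull_square v M.jF (pullback.fst v M.jF) j0 hδ' hδV hM M.hjF hσ hwM hwv
      (IsPullback.of_hasPullback v M.jF) (shift_restrict v) hc2 xg]
    have hscomp : FP.Main.Shift (pullback.snd v M.jF ≫ M.qF)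
        (fun z => (fun u => δ' (v u)) (pullback.fst v M.jF z)) (fun d => δ (i d)) 1 := fun y hy => by
      rw [Scheme.Hom.comp_apply]
      have h1 := hc2 y (fun y' hy' _ => j0.isOpenEmbedding.injective hy')
      rw [add_zero] at h1
      exact h1.trans (hsq _ ((isMaxFib_openImm j0 M.qF y).1 hy))
    rw [pull_comp (Gys.Closed.isDimFun (pullback.fst v M.jF) hδV) hδF j0 hc2 hδD M.qF hsq
      (pullback.snd v M.jF ≫ M.qF) rfl hscomp (zero_add 1),
      ← gys_pull_square (v ≫ proj s hL) i (pullback.fst v M.jF) (pullback.snd v M.jF ≫ M.qF) hX0 hδV hL hD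
        hσ₂' hw hwv₂ hoff hsvg hscomp x,
      pull_comp hδV hδ' v (shift_restrict v) hX0 (proj s hL) hsg (v ≫ proj s hL) rfl hsvg (zero_add 1)]
    exact gys_unique (pullback.fst v M.jF) ((Scheme.Modules.pullbackComp v (proj s hL)).app L).symm hδV
      hLv (PicLoc.isInvertible_pullback v hM) hσ₂' hσ hwv₂ hwv _
  obtain ⟨y, hy⟩ := hab
  have hDzF := Gys.Closed.isDimFun M.zF hδF
  have hcomm := gys_comm M.jF M.i' M.zF M.z M.sq.flip hδ' hM hO M.hjF M.hi' M.hzF M.hz hwM hw'
    hw₂ hw₁ xg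
  have h0 : gys M.zF hδF hOj M.hzF hw₂ (a - b) = 0 := by
    rw [← hy, gys_push_self M.zF hδF hOj M.hzF hw₂ rfl hDzF]
    have hiso : (Scheme.Modules.pullback M.zF).obj ((Scheme.Modules.pullback M.jF).obj
        (Coh.structureModule (space s hL))) ≅ Coh.structureModule D :=
      (Scheme.Modules.pullback M.zF).mapIso (PicLoc.pullbackStructureIso M.jF) ≪≫
        PicLoc.pullbackStructureIso M.zF
    rw [c1_congr hDzF (PicLoc.isInvertible_pullback M.zF hOj) (PicLoc.isInvertible_structureModule D) hiso,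
      c1_structureModule hDzF (PicLoc.isInvertible_structureModule D)
        (isSetup_of_deltaCompat M.zF hFs (PP.SubSetup.deltaCompat M.zF (δ := fun f => δ' (M.jF f))))]
    rfl
  have hb : gys M.zF hδF hOj M.hzF hw₂ b = cast ezF (gys i hX0 hL hD hw x) :=
    gys_sec M.qF M.zF M.zF_q hOj M.hzF hw₂ hδF hδD hsq ezF _
  rw [map_sub, sub_eq_zero, hb] at h0
  rw [h0] at hcomm
  obtain ⟨u, hu⟩ := pull_surjective M.p hδD' hδD hsp hdata
    (gys M.i' hδ' hO M.hi' hw' xg)
  rw [← hu, gys_sec M.p M.z M.z_p hMi M.hz hw₁ hδD' hδD hsp ez u] at hcomm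
  rw [← hu]
  congr 1
  refine cast_injective ezF ?_
  rw [hcomm]
  exact (cast_trans_eq _ _ _ u).symm

end Main

end Groth.Agent.Lib.Cyc.Deform
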