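import Groth.Agent.Lib.Cyc.Deform.Local
import Groth.Agent.Lib.Cyc.Deform.Line
import Groth.Agent.Lib.Cyc.PP.OpenImm
import Groth.Agent.Lib.Cyc.PP.SubSetup

/-!
# Flatness and relative dimension of the deformation
-/

set_option autoImplicit false
set_option linter.style.haveILetI false
universe u

noncomputable section

open CategoryTheory CategoryTheory.Limits AlgebraicGeometry TopologicalSpace Opposite

namespace Groth.Agent.Lib.Cyc.Deform

open Groth.Agent.Lib Groth.Agent.Lib.Cyc

variable {X : Scheme.{u}} {L : X.Modules} (s : L.presheaf.obj (op ⊤)) (hL : PicF.IsInvertible L)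

theorem proj_of {P : MorphismProperty Scheme.{u}} [IsZariskiLocalAtTarget P]
    (h : ∀ U : Idx L, P (Spec.map (CommRingCat.ofHom (Rel.str (coef s U))))) : P (proj s hL) := by
  let 𝒰 : X.OpenCover :=
    { I₀ := Idx L
      X := fun U => Spec (CommRingCat.of Γ(X, U.1))
      f := fun U => U.2.1.fromSpec
      mem₀ := by
        rw [Scheme.presieve₀_mem_precoverage_iff]
        refine ⟨fun x => ?_, fun U => U.2.1.isOpenImmersion_fromSpec⟩
        obtain ⟨U, hU, -⟩ := Idx.exists_mem hL (show x ∈ (⊤ : X.Opens) from trivial)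
        refine ⟨U, ?_⟩
        show x ∈ Set.range U.2.1.fromSpec
        rw [U.2.1.range_fromSpec]
        exact hU }
  refine IsZariskiLocalAtTarget.of_openCover 𝒰 fun U => ?_
  show P (pullback.snd (proj s hL) U.2.1.fromSpec)
  rw [← (isPullback_proj s hL U).isoPullback_inv_snd]
  exact (MorphismProperty.cancel_left_of_respectsIso P _ _).2 (h U)

instance flat_proj : Flat (proj s hL) := proj_of s hL fun U => by
  rw [HasRingHomProperty.Spec_iff (P := @Flat)]
  exact Rel.str_flat _

instance lft_proj : LocallyOfFiniteType (proj s hL) := proj_of s hL fun U => by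
  rw [HasRingHomProperty.Spec_iff (P := @LocallyOfFiniteType)]
  exact Rel.str_finiteType

instance quasiCompact_proj : QuasiCompact (proj s hL) := proj_of s hL fun _ => inferInstance

namespace Model

variable {s hL} {D : Scheme.{u}} {i : D ⟶ X} [IsClosedImmersion i] (M : Model s hL i)

include hL in
theorem exists_cover (U : Idx L → Scheme.{u}) (kD : ∀ V, U V ⟶ D)
    (sm : ∀ V : Idx L, U V ⟶ Spec (CommRingCat.of Γ(X, V.1)))
    (h : ∀ V, IsPullback (kD V) (sm V) i V.2.1.fromSpec) (y : D) : ∃ V b, kD V b = y := by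
  obtain ⟨V, hV, -⟩ := Idx.exists_mem hL (show i y ∈ (⊤ : X.Opens) from trivial)
  have hr : i y ∈ Set.range V.2.1.fromSpec := by rw [V.2.1.range_fromSpec]; exact hV
  obtain ⟨b, hb⟩ := hr
  obtain ⟨a, ha, -⟩ := Scheme.Pullback.exists_preimage_pullback (f := i) (g := V.2.1.fromSpec) y b hb.symm
  exact ⟨V, (h V).isoPullback.inv a, by rw [← Scheme.Hom.comp_apply, (h V).isoPullback_inv_fst, ha]⟩

/-- The charts of `p`. -/
def chartsP : Line.Charts M.p where
  ι := Idx L
  B U := BU s U
  d U := (M.chD U).choose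
  opn U := MorphismProperty.of_isPullback (M.chD U).choose_spec.choose_spec.choose_spec.1.flip inferInstance
  surj y := exists_cover (hL := hL) (fun U => Spec (BU s U)) _ _
    (fun U => (M.chD U).choose_spec.choose_spec.choose_spec.1) y
  k U := (M.chD U).choose_spec.choose
  sq U := (M.chD U).choose_spec.choose_spec.choose_spec.2.1

/-- The charts of `qF`. -/
def chartsQ : Line.Charts M.qF where
  ι := Idx L
  B U := BU s U
  d U := (M.chD U).choose
  opn U := MorphismProperty.of_isPullback (M.chD U).choose_spec.choose_spec.choose_spec.1.flip inferInstance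
  surj y := exists_cover (hL := hL) (fun U => Spec (BU s U)) _ _
    (fun U => (M.chD U).choose_spec.choose_spec.choose_spec.1) y
  k U := (M.chD U).choose_spec.choose_spec.choose
  sq U := (M.chD U).choose_spec.choose_spec.choose_spec.2.2

end Model

section RelDim

theorem trdegAt_closed {P Q R : Scheme.{u}} (c : P ⟶ Q) [IsClosedImmersion c] (g : Q ⟶ R) (x : P) :
    Residue.trdegAt (c ≫ g) x = Residue.trdegAt g (c x) := by
  rw [Residue.trdegAt_comp, FieldDim.trdegAt_eq_zero_of_surjective c _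
    (FieldDim.residueFieldMap_surjective (f := c) _), add_zero]

/-- A point maximal in its fibre and lying on a line has transcendence degree one. -/
theorem trdegAt_of_line {E D P Q : Scheme.{u}} (j : E ⟶ P) [IsClosedImmersion j] (i : D ⟶ Q)
    [IsClosedImmersion i] {g : P ⟶ Q} {p : E ⟶ D} (w : j ≫ g = p ≫ i)
    (hp : ∀ d, FibLen.IsMaxFib p d → Residue.trdegAt p d = 1) (d : E) (hd : FibLen.IsMaxFib g (j d)) :
    Residue.trdegAt g (j d) = 1 := by
  have hmax : FibLen.IsMaxFib p d := fun d' h hsp => j.isClosedEmbedding.injective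
    (hd (j d') (by rw [← Scheme.Hom.comp_apply, ← Scheme.Hom.comp_apply, w, Scheme.Hom.comp_apply,
      Scheme.Hom.comp_apply, h]) (hsp.map j.continuous))
  rw [← trdegAt_closed j g d, FieldDim.trdegAt_congr w d, Residue.trdegAt_comp, hp d hmax,
    FieldDim.trdegAt_eq_zero_of_surjective i _ (FieldDim.residueFieldMap_surjective (f := i) _), zero_add]

/-- The coordinate `T` away from the section. -/
theorem exists_openImm {A : Type u} [CommRing A] (a : A) :
    ∃ σ : Spec (CommRingCat.of (Localization.Away (Rel.str a a))) ⟶ Spec (CommRingCat.of (Polynomial A)),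
      IsOpenImmersion σ ∧ σ ≫ Spec.map (CommRingCat.ofHom (Polynomial.C : A →+* Polynomial A)) =
        Spec.map (CommRingCat.ofHom (algebraMap (Rel a) (Localization.Away (Rel.str a a)))) ≫
          Spec.map (CommRingCat.ofHom (Rel.str a)) := by
  let c : Polynomial A := Polynomial.C a * Polynomial.X
  let N := Localization.Away (Rel.str a a)
  let M := Localization.Away c
  let ρ : Rel a →+* N := algebraMap _ _
  let ψ : Polynomial A →+* N := Polynomial.eval₂RingHom (ρ.comp (Rel.str a)) (ρ (Rel.T a))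
  have hau : IsUnit (ρ (Rel.str a a)) := IsLocalization.Away.algebraMap_isUnit _
  have hTu : IsUnit (ρ (Rel.T a)) := by
    have : IsUnit (ρ (Rel.T a) * ρ (Rel.U a)) := by rw [← map_mul, Rel.T_mul_U]; exact hau
    exact isUnit_of_mul_isUnit_left this
  have hψc : IsUnit (ψ c) := by
    simp only [ψ, c, map_mul, Polynomial.coe_eval₂RingHom, Polynomial.eval₂_C, Polynomial.eval₂_X]
    exact hau.mul hTu
  let β : M →+* N := IsLocalization.Away.lift c hψc
  let μ : Polynomial A →+* M := algebraMap _ _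
  have hcu : IsUnit (μ c) := IsLocalization.Away.algebraMap_isUnit _
  have hXu : IsUnit (μ Polynomial.X) := by
    rw [map_mul] at hcu; exact isUnit_of_mul_isUnit_right hcu
  have haM : IsUnit (μ (Polynomial.C a)) := by
    rw [map_mul] at hcu; exact isUnit_of_mul_isUnit_left hcu
  let α₀ : Rel a →+* M := Rel.lift (μ.comp Polynomial.C) (μ Polynomial.X)
    (↑hXu.unit⁻¹ * μ (Polynomial.C a)) (by rw [← mul_assoc, IsUnit.mul_val_inv, one_mul]; rfl)
  have hα : IsUnit (α₀ (Rel.str a a)) := by rw [Rel.lift_str]; exact haM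
  let α : N →+* M := IsLocalization.Away.lift (Rel.str a a) hα
  have hαρ : ∀ r, α (ρ r) = α₀ r := fun r => IsLocalization.Away.lift_eq _ hα r
  have hβμ : ∀ r, β (μ r) = ψ r := fun r => IsLocalization.Away.lift_eq c hψc r
  have h1 : β.comp α = RingHom.id N := by
    refine IsLocalization.ringHom_ext (Submonoid.powers (Rel.str a a)) (Rel.hom_ext (fun r => ?_) ?_ ?_)
    · show β (α (ρ (Rel.str a r))) = ρ (Rel.str a r)
      rw [hαρ, Rel.lift_str, RingHom.comp_apply, hβμ]
      simp [ψ]
    · show β (α (ρ (Rel.T a))) = ρ (Rel.T a)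
      rw [hαρ, Rel.lift_T, hβμ]
      simp [ψ]
    · show β (α (ρ (Rel.U a))) = ρ (Rel.U a)
      refine hTu.mul_left_cancel ?_
      rw [hαρ, Rel.lift_U, map_mul, hβμ, ← map_mul ρ, Rel.T_mul_U]
      have hT' : ρ (Rel.T a) = β (μ Polynomial.X) := by rw [hβμ]; simp [ψ]
      rw [hT', ← mul_assoc, ← map_mul, IsUnit.mul_val_inv, map_one, one_mul]
      simp [ψ]
  have h2 : α.comp β = RingHom.id M := by
    refine IsLocalization.ringHom_ext (Submonoid.powers c) (Polynomial.ringHom_ext (fun r => ?_) ?_)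
    · show α (β (μ (Polynomial.C r))) = μ (Polynomial.C r)
      rw [hβμ]
      simp [ψ, hαρ, α₀]
    · show α (β (μ Polynomial.X)) = μ Polynomial.X
      rw [hβμ]
      simp [ψ, hαρ, α₀]
  let e : CommRingCat.of M ≅ CommRingCat.of N :=
    (RingEquiv.ofRingHom β α h1 h2).toCommRingCatIso
  haveI : IsOpenImmersion (Spec.map (CommRingCat.ofHom μ)) :=
    IsOpenImmersion.of_isLocalization c
  refine ⟨Spec.map e.hom ≫ Spec.map (CommRingCat.ofHom μ), inferInstance, ?_⟩
  rw [Category.assoc, ← Spec.map_comp, ← Spec.map_comp, ← Spec.map_comp]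
  congr 1
  refine CommRingCat.hom_ext (RingHom.ext fun r => ?_)
  show β (μ (Polynomial.C r)) = ρ (Rel.str a r)
  rw [hβμ]
  simp [ψ]

theorem trdegAt_openImm {P Q R : Scheme.{u}} (σ : P ⟶ Q) [IsOpenImmersion σ] (g : Q ⟶ R) (x : P) :
    Residue.trdegAt (σ ≫ g) x = Residue.trdegAt g (σ x) := by
  rw [Residue.trdegAt_comp, FieldDim.trdegAt_eq_zero_of_surjective σ _
    (PP.OpenImm.residue_bijective σ x).2, add_zero]

theorem isMaxFib_openImm {P Q R : Scheme.{u}} (σ : P ⟶ Q) [IsOpenImmersion σ] (g : Q ⟶ R) (x : P) :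
    FibLen.IsMaxFib (σ ≫ g) x ↔ FibLen.IsMaxFib g (σ x) := by
  constructor
  · intro h y hy hsp
    obtain ⟨y', rfl⟩ := hsp.mem_open σ.isOpenEmbedding.isOpen_range ⟨x, rfl⟩
    rw [h y' hy (σ.isOpenEmbedding.isInducing.specializes_iff.1 hsp)]
  · intro h y hy hsp
    exact σ.isOpenEmbedding.injective (h (σ y) hy (hsp.map σ.continuous))

variable {s hL} {D : Scheme.{u}} {i : D ⟶ X} [IsClosedImmersion i] (M : Model s hL i) {δ : X → ℤ}

include M in
theorem hasRelDim_proj (hD : Cyc.IsZeroSchemeOf i L s) (hX : Cyc.IsSetup X δ) :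
    Cyc.HasRelDim (proj s hL) 1 := by
  haveI := M.closed_i'
  haveI := M.closed_jF
  haveI := M.chartsP.lft
  haveI := M.chartsQ.lft
  obtain ⟨δD, hDs, -⟩ := CH.exists_setup i hX
  obtain ⟨δ', hD's, -⟩ := CH.exists_setup M.p hDs
  obtain ⟨δF, hFs, -⟩ := CH.exists_setup M.qF hDs
  refine FieldDim.hasRelDim_of_forall _ fun x hx => ?_
  rw [Nat.cast_one]
  by_cases h1 : x ∈ Set.range ⇑M.i'
  · obtain ⟨d, rfl⟩ := h1
    exact trdegAt_of_line M.i' i M.wp (M.chartsP.trdegAt_eq hD's) d hx
  let V : (space s hL).Opens := ⟨(Set.range ⇑M.i')ᶜ, M.closed_i'.base_closed.isClosed_range.isOpen_compl⟩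
  have hsq := M.off V.ι rfl
  by_cases h2 : proj s hL x ∈ Set.range ⇑i
  · obtain ⟨y, hy⟩ := h2
    obtain ⟨a, ha, -⟩ := Scheme.Pullback.exists_preimage_pullback (f := V.ι ≫ proj s hL) (g := i)
      (⟨x, h1⟩ : V) y (by rw [Scheme.Hom.comp_apply]; exact hy.symm)
    have hxr : x ∈ Set.range ⇑M.jF := by
      refine ⟨pullback.snd V.ι M.jF (hsq.isoPullback.inv a), ?_⟩
      rw [← Scheme.Hom.comp_apply, ← pullback.condition, ← Scheme.Hom.comp_apply,
        ← Category.assoc, hsq.isoPullback_inv_fst, Scheme.Hom.comp_apply, ha]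
      rfl
    obtain ⟨d, rfl⟩ := hxr
    exact trdegAt_of_line M.jF i M.wq (M.chartsQ.trdegAt_eq hFs) d hx
  obtain ⟨U, q, rfl⟩ := exists_chart s hL x
  haveI := hX.1
  let A := CommRingCat.of Γ(X, U.1)
  let πA : Spec (CommRingCat.of (Polynomial A)) ⟶ Spec A :=
    Spec.map (CommRingCat.ofHom (Polynomial.C : A →+* Polynomial A))
  haveI : IsOpenImmersion U.2.1.fromSpec := U.2.1.isOpenImmersion_fromSpec
  let C : Line.Charts πA :=
    { ι := PUnit
      B := fun _ => A
      d := fun _ => 𝟙 _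
      opn := fun _ => inferInstance
      surj := fun y => ⟨PUnit.unit, y, rfl⟩
      k := fun _ => 𝟙 _
      sq := fun _ => IsPullback.of_horiz_isIso ⟨by rw [Category.id_comp]; exact (Category.comp_id _).symm⟩ }
  obtain ⟨δA, hAs, -⟩ := CH.exists_setup U.2.1.fromSpec hX
  haveI := C.lft
  obtain ⟨δP, hPs, -⟩ := CH.exists_setup πA hAs
  obtain ⟨σ, hσ, hσw⟩ := exists_openImm (coef s U)
  have hfs : U.2.1.fromSpec (Spec.map (CommRingCat.ofHom (Rel.str (coef s U))) q) =
      proj s hL (chart s hL U q) := by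
    rw [← Scheme.Hom.comp_apply, ← chart_proj, Scheme.Hom.comp_apply]
  have hcU : proj s hL (chart s hL U q) ∈ U.1 := (W_eq s hL U).le ⟨q, rfl⟩
  have hunit : IsUnit (X.presheaf.germ U.1 _ hcU (coef s U)) := Ideal.span_singleton_eq_top.1
    ((hasIdeal_of_isZeroSchemeOf hL hD (exists_germ_coef s U hcU).1 (exists_germ_coef s U hcU).2).symm.trans
      ((ModelFibre.StalkIdeal.stalkIdeal_eq_top_iff _ _).2 fun h => h2 (by
        rw [← SetLike.mem_coe, Scheme.Hom.support_ker] at h
        simpa [i.isClosedEmbedding.isClosed_range.closure_eq] using h)))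
  have hu2 : IsUnit (gR (RU s U) q (Rel.str (coef s U) (coef s U))) := by
    have := (hunit.map ((proj s hL).stalkMap (chart s hL U q)).hom).map ((chart s hL U).stalkMap q).hom
    rwa [show (proj s hL).stalkMap (chart s hL U q) (X.presheaf.germ U.1 _ hcU (coef s U)) = _ from
      proj_germ s hL U (coef s U) ⟨q, rfl⟩, stalkMap_fn] at this
  let ρ := Spec.map (CommRingCat.ofHom (algebraMap (Rel (coef s U))
    (Localization.Away (Rel.str (coef s U) (coef s U)))))
  haveI : IsOpenImmersion ρ := IsOpenImmersion.of_isLocalization (Rel.str (coef s U) (coef s U))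
  have hb : q ∈ (Spec (RU s U)).basicOpen ((Scheme.ΓSpecIso (RU s U)).inv (Rel.str (coef s U) (coef s U))) :=
    ((Spec (RU s U)).mem_basicOpen (U := ⊤) _ q trivial).2 hu2
  have hq : q ∈ Set.range ⇑ρ := by
    have hr : Set.range ⇑ρ = ((PrimeSpectrum.basicOpen (Rel.str (coef s U) (coef s U)) :
        Opens (PrimeSpectrum (Rel (coef s U)))) : Set (PrimeSpectrum (Rel (coef s U)))) :=
      PrimeSpectrum.localization_away_comap_range _ (Rel.str (coef s U) (coef s U))
    rw [hr]
    rwa [basicOpen_eq_of_affine] at hb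
  obtain ⟨q', rfl⟩ := hq
  have hm1 := (isMaxFib_openImm (chart s hL U) (proj s hL) (ρ q')).2 hx
  rw [chart_proj] at hm1
  have hm2 : FibLen.IsMaxFib (Spec.map (CommRingCat.ofHom (Rel.str (coef s U)))) (ρ q') := fun y hy hsp =>
    hm1 y (by rw [Scheme.Hom.comp_apply, Scheme.Hom.comp_apply, hy]) hsp
  have hm3 := (isMaxFib_openImm ρ _ q').2 hm2
  rw [← hσw] at hm3
  have h3 := C.trdegAt_eq hPs _ ((isMaxFib_openImm σ πA q').1 hm3)
  rw [← trdegAt_openImm σ πA q', FieldDim.trdegAt_congr hσw q', trdegAt_openImm] at h3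
  rw [← trdegAt_openImm (chart s hL U) (proj s hL), FieldDim.trdegAt_congr (chart_proj s hL U),
    Residue.trdegAt_comp, h3, FieldDim.trdegAt_eq_zero_of_surjective U.2.1.fromSpec _
      (PP.OpenImm.residue_bijective U.2.1.fromSpec _).2, zero_add]

end RelDim

end Groth.Agent.Lib.Cyc.Deform
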