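import Mathlib.RingTheory.MvPolynomial.Basic
import Mathlib.RingTheory.Flat.Basic
import Mathlib.RingTheory.RingHom.Flat
import Mathlib.RingTheory.Polynomial.Basic
import Mathlib.Algebra.Category.Ring.Constructions
import Mathlib.RingTheory.FiniteType

/-!
# The ring `A[T, U] / (T U - a)`
-/

set_option autoImplicit false
universe u

noncomputable section

namespace Groth.Agent.Lib.Cyc.Deform

open CategoryTheory CategoryTheory.Limits MvPolynomial

variable {A B W : Type u} [CommRing A] [CommRing B] [CommRing W]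

/-- The relation. -/
def relIdeal (a : A) : Ideal (MvPolynomial (Fin 2) A) := Ideal.span {X 0 * X 1 - C a}

/-- `A[T, U] / (T U - a)`. -/
abbrev Rel (a : A) : Type u := MvPolynomial (Fin 2) A ⧸ relIdeal a

namespace Rel

variable (a : A)

/-- The structure map. -/
def str : A →+* Rel a := (Ideal.Quotient.mk _).comp C

/-- The first coordinate. -/
def T : Rel a := Ideal.Quotient.mk _ (X 0)

/-- The second coordinate. -/
def U : Rel a := Ideal.Quotient.mk _ (X 1)

theorem T_mul_U : T a * U a = str a a := by
  rw [T, U, ← map_mul, str, RingHom.comp_apply, Ideal.Quotient.mk_eq_mk_iff_sub_mem]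
  exact Ideal.subset_span rfl

variable {a}

/-- The universal property. -/
def lift (φ : A →+* W) (t v : W) (h : t * v = φ a) : Rel a →+* W :=
  Ideal.Quotient.lift _ (eval₂Hom φ ![t, v]) fun x hx => by
    obtain ⟨y, rfl⟩ := Ideal.mem_span_singleton'.1 hx
    simp [h]

@[simp] theorem lift_str (φ : A →+* W) (t v : W) (h : t * v = φ a) (r : A) :
    lift φ t v h (str a r) = φ r := by simp [lift, str]

@[simp] theorem lift_T (φ : A →+* W) (t v : W) (h : t * v = φ a) : lift φ t v h (T a) = t := by
  simp [lift, T]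

@[simp] theorem lift_U (φ : A →+* W) (t v : W) (h : t * v = φ a) : lift φ t v h (U a) = v := by
  simp [lift, U]

theorem hom_ext {f g : Rel a →+* W} (h0 : ∀ r, f (str a r) = g (str a r)) (hT : f (T a) = g (T a))
    (hU : f (U a) = g (U a)) : f = g :=
  Ideal.Quotient.ringHom_ext (MvPolynomial.ringHom_ext h0 (by
    intro n
    fin_cases n
    · exact hT
    · exact hU))

section Map

variable {b : B} (f : A →+* B) (v : Bˣ) (h : f a * v = b)

include h in
theorem map_rel : T b * (str b ↑v⁻¹ * U b) = (str b).comp f a := by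
  rw [mul_left_comm, T_mul_U, ← map_mul, ← h, RingHom.comp_apply]
  congr 1
  rw [mul_comm, mul_assoc, Units.mul_inv, mul_one]

/-- Change of base and of generator. -/
def map : Rel a →+* Rel b := lift ((str b).comp f) (T b) (str b ↑v⁻¹ * U b) (map_rel f v h)

@[simp] theorem map_str (r : A) : map f v h (str a r) = str b (f r) := lift_str _ _ _ _ r
@[simp] theorem map_T : map f v h (T a) = T b := lift_T _ _ _ _
@[simp] theorem map_U : map f v h (U a) = str b ↑v⁻¹ * U b := lift_U _ _ _ _

theorem isPushout : IsPushout (CommRingCat.ofHom f) (CommRingCat.ofHom (str a))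
    (CommRingCat.ofHom (str b)) (CommRingCat.ofHom (map f v h)) := by
  have hc : CommRingCat.ofHom f ≫ CommRingCat.ofHom (str b) =
      CommRingCat.ofHom (str a) ≫ CommRingCat.ofHom (map f v h) := by
    ext r
    exact (map_str f v h r).symm
  have hrel : ∀ s : PushoutCocone (CommRingCat.ofHom f) (CommRingCat.ofHom (str a)),
      s.inr.hom (T a) * (s.inl.hom v * s.inr.hom (U a)) = s.inl.hom b := fun s => by
    have hs : s.inl.hom (f a) = s.inr.hom (str a a) := ConcreteCategory.congr_hom s.condition a
    rw [mul_left_comm, ← map_mul s.inr.hom, T_mul_U, ← hs, ← map_mul, mul_comm, h]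
  refine ⟨⟨hc⟩, ⟨PushoutCocone.IsColimit.mk hc
    (fun s => CommRingCat.ofHom (lift s.inl.hom (s.inr.hom (T a)) (s.inl.hom v * s.inr.hom (U a)) (hrel s)))
    (fun s => ?_) (fun s => ?_) fun s m h1 h2 => ?_⟩⟩
  · ext r
    exact lift_str (a := b) _ _ _ (hrel s) r
  · refine CommRingCat.hom_ext (hom_ext (fun r => ?_) ?_ ?_)
    · simpa using ConcreteCategory.congr_hom s.condition r
    · simp
    · simp only [CommRingCat.hom_comp, CommRingCat.hom_ofHom, RingHom.comp_apply, map_U, map_mul,
        lift_str, lift_U]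
      rw [← mul_assoc, ← map_mul, Units.inv_mul, map_one, one_mul]
  · refine CommRingCat.hom_ext (hom_ext (fun r => ?_) ?_ ?_)
    · simpa using ConcreteCategory.congr_hom h1 r
    · simpa using ConcreteCategory.congr_hom h2 (T a)
    · simp only [CommRingCat.hom_ofHom, lift_U]
      have e1 : m.hom (map f v h (U a)) = s.inr.hom (U a) := ConcreteCategory.congr_hom h2 (U a)
      have e2 : ∀ r, m.hom (str b r) = s.inl.hom r := fun r => ConcreteCategory.congr_hom h1 r
      rw [map_U, map_mul, e2] at e1
      rw [← e1, ← mul_assoc, ← map_mul, Units.mul_inv, map_one, one_mul]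

end Map

theorem map_map {C' : Type u} [CommRing C'] {b : B} {c : C'} (f : A →+* B) (g : B →+* C') (v : Bˣ)
    (w : C'ˣ) (x : C'ˣ) (h : f a * v = b) (h' : g b * w = c) (h'' : g.comp f a * x = c)
    (hx : g v * w = (x : C')) : (map g w h').comp (map f v h) = map (g.comp f) x h'' := by
  refine hom_ext (fun r => by simp) (by simp) ?_
  have hx' : (Units.map g.toMonoidHom v) * w = x := Units.ext hx
  simp only [RingHom.comp_apply, map_U, map_mul, map_str, ← mul_assoc]
  rw [← map_mul, ← hx', mul_inv]
  rfl

theorem map_id (v : Aˣ) (hv : v = 1) (h : RingHom.id A a * v = a) :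
    map (RingHom.id A) v h = RingHom.id (Rel a) := by
  subst hv
  exact hom_ext (fun r => by simp) (by simp) (by simp)

section Flat

theorem str_finiteType : (str a).FiniteType :=
  (RingHom.FiniteType.of_surjective (Ideal.Quotient.mk (relIdeal a)) Ideal.Quotient.mk_surjective).comp
    (RingHom.finiteType_algebraMap.2 inferInstance)

variable (a)

/-- Exponents of the normal form. -/
def deg (d : Fin 2 →₀ ℕ) : ℤ := (d 0 : ℤ) - d 1

/-- The normal form of a polynomial. -/
def nf : MvPolynomial (Fin 2) A →ₗ[A] (ℤ →₀ A) :=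
  (basisMonomials (Fin 2) A).constr A fun d => Finsupp.single (deg d) (a ^ min (d 0) (d 1))

theorem nf_monomial (d : Fin 2 →₀ ℕ) :
    nf a (monomial d 1) = Finsupp.single (deg d) (a ^ min (d 0) (d 1)) := by
  rw [← (congrFun (coe_basisMonomials (σ := Fin 2) (R := A)) d)]
  exact (basisMonomials (Fin 2) A).constr_basis A _ d

theorem nf_mem {x : MvPolynomial (Fin 2) A} (hx : x ∈ relIdeal a) : nf a x = 0 := by
  obtain ⟨y, rfl⟩ := Ideal.mem_span_singleton'.1 hx
  clear hx
  induction y using MvPolynomial.induction_on' with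
  | add p q hp hq => rw [add_mul, map_add, hp, hq, add_zero]
  | monomial d c =>
    let e : Fin 2 →₀ ℕ := d + Finsupp.single 0 1 + Finsupp.single 1 1
    have : monomial d c * (X 0 * X 1 - C a) = c • monomial e (1 : A) - (c * a) • monomial d (1 : A) := by
      rw [mul_sub, smul_monomial, smul_monomial, smul_eq_mul, mul_one, smul_eq_mul, mul_one,
        mul_comm (monomial d c) (C a), C_mul_monomial, mul_comm a c]
      congr 1
      show _ = monomial (d + Finsupp.single 0 1 + Finsupp.single 1 1) c
      rw [X, X, monomial_mul, monomial_mul, mul_one, mul_one, add_assoc]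
    have h0 : e 0 = d 0 + 1 := by simp [e]
    have h1 : e 1 = d 1 + 1 := by simp [e]
    rw [this, map_sub, map_smul, map_smul, nf_monomial, nf_monomial, Finsupp.smul_single,
      Finsupp.smul_single, smul_eq_mul, smul_eq_mul, h0, h1, Nat.add_min_add_right, pow_succ,
      show deg e = deg d by simp only [deg, h0, h1]; push_cast; ring, sub_eq_zero]
    congr 1
    ring

/-- The monomial of a normal form. -/
def gen (n : ℤ) : Rel a := T a ^ n.toNat * U a ^ (-n).toNat

theorem mk_monomial (d : Fin 2 →₀ ℕ) :
    Ideal.Quotient.mk (relIdeal a) (monomial d 1) = str a (a ^ min (d 0) (d 1)) * gen a (deg d) := by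
  have hd : monomial d (1 : A) = X 0 ^ d 0 * X 1 ^ d 1 := by
    rw [X_pow_eq_monomial, X_pow_eq_monomial, monomial_mul, mul_one]
    rw [show Finsupp.single 0 (d 0) + Finsupp.single 1 (d 1) = d from
      Finsupp.ext fun n => by fin_cases n <;> simp]
  rw [hd, map_mul, map_pow, map_pow, map_pow, ← T_mul_U, mul_pow, gen, deg]
  show T a ^ d 0 * U a ^ d 1 = _
  rw [mul_mul_mul_comm, ← pow_add, ← pow_add]
  congr 2 <;> omega

theorem free : Module.Free A (Rel a) := by
  let φ : Rel a →ₗ[A] (ℤ →₀ A) :=
    { toFun := Quotient.lift (nf a) (fun x y h => by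
        rw [← sub_eq_zero, ← map_sub]
        exact nf_mem a ((Submodule.quotientRel_def _).1 h))
      map_add' := by rintro ⟨x⟩ ⟨y⟩; exact map_add (nf a) x y
      map_smul' := by
        rintro r ⟨x⟩
        refine Eq.trans ?_ (map_smul (nf a) r x)
        rfl }
  let ψ : (ℤ →₀ A) →ₗ[A] Rel a := Finsupp.linearCombination A (gen a)
  have h1 : ∀ x, ψ (φ x) = x := by
    rintro ⟨x⟩
    show ψ (nf a x) = Ideal.Quotient.mk _ x
    induction x using MvPolynomial.induction_on' with
    | add p q hp hq => rw [map_add, map_add, hp, hq, map_add]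
    | monomial d c =>
      have hdc : monomial d c = C c * monomial d 1 := by rw [C_mul_monomial, mul_one]
      rw [show monomial d c = c • monomial d (1 : A) by rw [smul_monomial, smul_eq_mul, mul_one],
        map_smul, nf_monomial, map_smul, show ψ (Finsupp.single (deg d) _) = _ from
          Finsupp.linearCombination_single _ _ _, MvPolynomial.smul_eq_C_mul, map_mul, mk_monomial]
      show c • a ^ min (d 0) (d 1) • gen a (deg d) = str a c * (str a (a ^ min (d 0) (d 1)) * gen a (deg d))
      exact (Algebra.smul_def (R := A) (A := Rel a) c _).trans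
        (congrArg (str a c * ·) (Algebra.smul_def (R := A) (A := Rel a) _ _))
  have h2 : ∀ x, φ (ψ x) = x := by
    intro x
    induction x using Finsupp.induction_linear with
    | zero => simp
    | add p q hp hq => rw [map_add, map_add, hp, hq]
    | single n c =>
      rw [show ψ (Finsupp.single n c) = c • gen a n from Finsupp.linearCombination_single _ _ _, map_smul]
      have : φ (gen a n) = Finsupp.single n 1 := by
        show φ (Ideal.Quotient.mk _ (X 0) ^ n.toNat * Ideal.Quotient.mk _ (X 1) ^ (-n).toNat) = _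
        rw [← map_pow, ← map_pow, ← map_mul, X_pow_eq_monomial, X_pow_eq_monomial, monomial_mul, mul_one]
        refine (nf_monomial a _).trans ?_
        have hz : min n.toNat (-n).toNat = 0 := by omega
        have hn : (n.toNat : ℤ) - (-n).toNat = n := by omega
        simp [deg, hz]
        congr 1
        omega
      rw [this, Finsupp.smul_single, smul_eq_mul, mul_one]
  exact Module.Free.of_equiv (LinearEquiv.ofLinearMap φ ψ (LinearMap.ext h2) (LinearMap.ext h1)).symm

theorem str_flat : RingHom.Flat (str a) := by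
  haveI := free a
  exact (RingHom.flat_algebraMap_iff (R := A) (S := Rel a)).2 inferInstance

end Flat

section Quot

variable (a)

/-- The base of the two lines. -/
abbrev Base : Type u := A ⧸ Ideal.span {a}

theorem mk_self : Ideal.Quotient.mk (Ideal.span {a}) a = 0 :=
  Ideal.Quotient.eq_zero_iff_mem.2 (Ideal.mem_span_singleton_self a)

/-- The line `T = 0`. -/
def toT : Rel a →+* Polynomial (Base a) :=
  lift ((Polynomial.C).comp (Ideal.Quotient.mk _)) 0 Polynomial.X (by simp [mk_self])

/-- The line `U = 0`. -/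
def toU : Rel a →+* Polynomial (Base a) :=
  lift ((Polynomial.C).comp (Ideal.Quotient.mk _)) Polynomial.X 0 (by simp [mk_self])

/-- The point `T = U = 0`. -/
def toTU : Rel a →+* Base a := lift (Ideal.Quotient.mk _) 0 0 (by simp [mk_self])

theorem surj (P : Ideal (Rel a)) (φ : Rel a →+* W) (ψ : W →+* Rel a ⧸ P) (hP : P ≤ RingHom.ker φ)
    (h1 : ψ.comp φ = Ideal.Quotient.mk P) (h2 : ∀ w, ∃ r, φ r = w) :
    Function.Surjective φ ∧ RingHom.ker φ = P := by
  refine ⟨h2, le_antisymm (fun x hx => ?_) hP⟩
  rw [← Ideal.Quotient.eq_zero_iff_mem, ← RingHom.congr_fun h1 x, RingHom.comp_apply, hx, map_zero]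

/-- The base maps to the quotient by an ideal containing `T U`. -/
def ofBase (P : Ideal (Rel a)) (h : str a a ∈ P) : Base a →+* Rel a ⧸ P :=
  Ideal.Quotient.lift _ ((Ideal.Quotient.mk P).comp (str a)) fun x hx => by
    obtain ⟨y, rfl⟩ := Ideal.mem_span_singleton'.1 hx
    have h0 : Ideal.Quotient.mk P (str a y * str a a) = 0 :=
      Ideal.Quotient.eq_zero_iff_mem.2 (P.mul_mem_left _ h)
    rw [RingHom.comp_apply, map_mul]
    exact h0

theorem ker_toT : Function.Surjective (toT a) ∧ RingHom.ker (toT a) = Ideal.span {T a} := by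
  refine surj a (Ideal.span {T a}) (toT a) (Polynomial.eval₂RingHom
    (ofBase a _ (T_mul_U a ▸ Ideal.mul_mem_right _ _ (Ideal.mem_span_singleton_self _)))
      (Ideal.Quotient.mk (Ideal.span {T a}) (U a))) ?_ ?_ fun w => ?_
  · rw [Ideal.span_singleton_le_iff_mem, RingHom.mem_ker, toT, lift_T]
  · refine Rel.hom_ext (W := Rel a ⧸ Ideal.span {T a}) (fun r => ?_) ?_ ?_
    · simp [toT, ofBase]
    · simp [toT, Ideal.Quotient.eq_zero_iff_mem.2 (Ideal.mem_span_singleton_self (T a))]
    · simp [toT]
  · induction w using Polynomial.induction_on' with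
    | add p q hp hq =>
      obtain ⟨r, rfl⟩ := hp; obtain ⟨r', rfl⟩ := hq
      exact ⟨r + r', map_add _ _ _⟩
    | monomial n c =>
      obtain ⟨c, rfl⟩ := Ideal.Quotient.mk_surjective c
      exact ⟨str a c * U a ^ n, by simp [toT, Polynomial.C_mul_X_pow_eq_monomial]⟩

theorem ker_toU : Function.Surjective (toU a) ∧ RingHom.ker (toU a) = Ideal.span {U a} := by
  refine surj a (Ideal.span {U a}) (toU a) (Polynomial.eval₂RingHom
    (ofBase a _ (T_mul_U a ▸ Ideal.mul_mem_left _ _ (Ideal.mem_span_singleton_self _)))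
      (Ideal.Quotient.mk (Ideal.span {U a}) (T a))) ?_ ?_ fun w => ?_
  · rw [Ideal.span_singleton_le_iff_mem, RingHom.mem_ker, toU, lift_U]
  · refine Rel.hom_ext (W := Rel a ⧸ Ideal.span {U a}) (fun r => ?_) ?_ ?_
    · simp [toU, ofBase]
    · simp [toU]
    · simp [toU, Ideal.Quotient.eq_zero_iff_mem.2 (Ideal.mem_span_singleton_self (U a))]
  · induction w using Polynomial.induction_on' with
    | add p q hp hq =>
      obtain ⟨r, rfl⟩ := hp; obtain ⟨r', rfl⟩ := hq
      exact ⟨r + r', map_add _ _ _⟩
    | monomial n c =>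
      obtain ⟨c, rfl⟩ := Ideal.Quotient.mk_surjective c
      exact ⟨str a c * T a ^ n, by simp [toU, Polynomial.C_mul_X_pow_eq_monomial]⟩

theorem ker_toTU :
    Function.Surjective (toTU a) ∧ RingHom.ker (toTU a) = Ideal.span {T a, U a} := by
  have hT : T a ∈ Ideal.span ({T a, U a} : Set (Rel a)) := Ideal.subset_span (by simp)
  have hU : U a ∈ Ideal.span ({T a, U a} : Set (Rel a)) := Ideal.subset_span (by simp)
  refine surj a (Ideal.span {T a, U a}) (toTU a) (ofBase a _ (T_mul_U a ▸ Ideal.mul_mem_right _ _ hT)) ?_ ?_ fun w => ?_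
  · rw [Ideal.span_le]
    rintro x (rfl | rfl) <;> simp [toTU]
  · refine Rel.hom_ext (W := Rel a ⧸ Ideal.span {T a, U a}) (fun r => ?_) ?_ ?_
    · simp [toTU, ofBase]
    · simp [toTU, Ideal.Quotient.eq_zero_iff_mem.2 hT]
    · simp [toTU, Ideal.Quotient.eq_zero_iff_mem.2 hU]
  · obtain ⟨c, rfl⟩ := Ideal.Quotient.mk_surjective w
    exact ⟨str a c, by simp [toTU]⟩

end Quot

end Rel

end Groth.Agent.Lib.Cyc.Deform
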