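import Groth.Agent.Lib.Cyc.Deform.DatumBC
import Groth.Agent.Lib.Cyc.Bivar.TotOp
import Groth.Agent.Lib.Cyc.Bivar.Sq
import Groth.Prelude.Def_W4stkchowbivarWeakCl

/-!
# Rules compatible with trivialised Gysin maps
-/

set_option autoImplicit false
set_option linter.style.haveILetI false
universe u

noncomputable section

open CategoryTheory CategoryTheory.Limits AlgebraicGeometry

namespace Groth.Agent.Lib.Cyc.Deform.WeakCl

open Groth.Agent.Lib Groth.Agent.Lib.Cyc Groth.Agent.Lib.Cyc.CH Groth.Agent.Lib.Cyc.Bivar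

variable {X Y : Scheme.{u}} {f : X ⟶ Y} {δX : X → ℤ} {δY : Y → ℤ} {p : ℤ}
  (c : _root_.Bivar.WeakCl p f δX δY) (s : _root_.Bivar.Sq f δX δY)

theorem gysinOK_of_eq {S S' T T' : Scheme.{u}} [IsLocallyNoetherian S] [IsLocallyNoetherian S']
    [IsLocallyNoetherian T] [IsLocallyNoetherian T'] {δS : S → ℤ} {δS' : S' → ℤ}
    (hS : Cyc.IsDimFun S δS) (hS' : Cyc.IsDimFun S' δS')
    (i : T ⟶ S) [IsClosedImmersion i] (i' : T' ⟶ S') [IsClosedImmersion i']
    {M : S.Modules} (hM : PicF.IsInvertible M) {σ : M.presheaf.obj (Opposite.op ⊤)}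
    (hσ : Cyc.IsZeroSchemeOf i M σ) {N : S'.Modules} (hN : PicF.IsInvertible N)
    {τ : N.presheaf.obj (Opposite.op ⊤)} (hτ : Cyc.IsZeroSchemeOf i' N τ)
    (φ : ∀ k, ChowOps.CH S δS k →+ ChowOps.CH S' δS' (k - p))
    (ψ : ∀ k, ChowOps.CH T (fun t => δS (i t)) k →+ ChowOps.CH T' (fun t => δS' (i' t)) (k - p))
    (H : ∀ (w : (ξ : S) → Cyc.secFibre M ξ) (hw : ∀ ξ, w ξ ≠ 0)
      (w' : (ξ : S') → Cyc.secFibre N ξ) (hw' : ∀ ξ, w' ξ ≠ 0) (x : Tot S δS),
      gys i' hS' hN hτ hw' (totOp φ x) = totOp ψ (gys i hS hM hσ hw x)) (k : ℤ) :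
    _root_.Bivar.GysinOK δS (fun t => δS (i t)) δS' (fun t => δS' (i' t)) i M σ i' N τ (φ k)
      (ψ (k - 1)) := by
  intro α hα
  obtain ⟨⟨β, hβ⟩, hβe⟩ := QuotientAddGroup.mk_surjective (φ k (ChowOps.cl α hα))
  refine ⟨β, hβ, hβe.symm, fun w hw γ eγ hγ w' hw' => ?_⟩
  obtain ⟨ζ, hζ, eζ⟩ := exists_gys_cycle i' hS' hN (s := τ) hw' hβ
  have hζ' : ζ ∈ Cyc.Zk T' (fun t => δS' (i' t)) (k - 1 - p) := by
    rwa [show k - 1 - p = k - p - 1 by ring]
  refine ⟨ζ, hζ', eζ, ?_⟩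
  have key := H w hw w' hw' (cls δS k α hα)
  rw [totOp_cls φ (hβ := hβ) hβe.symm, gys_cls i hS hM hσ hw hα rfl hγ eγ,
    gys_cls i' hS' hN hτ hw' hβ (show k - 1 - p = k - p - 1 by ring) hζ' eζ] at key
  exact DirectSum.of_injective (β := fun k => ChowOps.CH T' (fun t => δS' (i' t)) k) (k - 1 - p)
    (key.trans (totOp_of ψ (k - 1) _)).symm

theorem gys_op (hX : Cyc.IsSetup X δX) (hY : Cyc.IsSetup Y δY) (hδ : Cyc.DeltaCompat f δX δY)
    (t : _root_.Bivar.Sq f δX δY) (i : t.Y' ⟶ s.Y') [IsClosedImmersion i] (j : t.X' ⟶ s.X')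
    [IsClosedImmersion j] (w₁ : i ≫ s.g = t.g) (w₂ : j ≫ s.f' = t.f' ≫ i) (w₃ : j ≫ s.g' = t.g')
    (L : s.Y'.Modules) (hL : PicF.IsInvertible L) (σ : L.presheaf.obj (Opposite.op ⊤))
    (hσ : Cyc.IsZeroSchemeOf i L σ)
    (τ : ((Scheme.Modules.pullback s.f').obj L).presheaf.obj (Opposite.op ⊤))
    (hτ : Cyc.IsZeroSchemeOf j ((Scheme.Modules.pullback s.f').obj L) τ) (k : ℤ) :
    _root_.Bivar.GysinOK s.δY' t.δY' s.δX' t.δX' i L σ j ((Scheme.Modules.pullback s.f').obj L) τ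
      (c.op s k) (c.op t (k - 1)) := by
  have et := delta_eq_of_closed i (compat_of_comp i w₁ s.compatY t.compatY)
  have ex := delta_eq_of_closed j (compat_of_comp j w₃ s.compatX t.compatX)
  obtain ⟨Yt, Xt, gt, ft, g't, hpt, hlt, δYt, δXt, cYt, cXt⟩ := t
  dsimp only at i j w₁ w₂ w₃ hσ hτ et ex ⊢
  replace et : δYt = fun d : Yt => s.δY' (i d) := et
  replace ex : δXt = fun d : Xt => s.δX' (j d) := ex
  subst et ex
  let t : _root_.Bivar.Sq f δX δY := ⟨Yt, Xt, gt, ft, g't, hpt, hlt, _, _, cYt, cXt⟩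
  have hsY := setup_sqY hY s
  have hsX := setup_sqX hX s
  haveI := hsY.1
  haveI := hsX.1
  haveI : IsLocallyNoetherian Yt := LocallyOfFiniteType.isLocallyNoetherian i
  haveI : IsLocallyNoetherian Xt := LocallyOfFiniteType.isLocallyNoetherian j
  have hLX := PicLoc.isInvertible_pullback s.f' hL
  refine gysinOK_of_eq (p := p) hsY.2.2 hsX.2.2 i j hL hσ hLX hτ (c.op s) (c.op t) ?_ k
  intro w hw w' hw' x
  obtain ⟨Md⟩ := nonempty_model σ hL i hσ
  let N := Datum.ofModel Md hsY hσ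
  have hsq : IsPullback ft j i s.f' := (isPullback_map s t i j w₁ w₂ w₃).flip
  let B := Datum.baseChange N s.f' j ft hsq
  haveI := Md.closed_i'
  haveI := N.closed_z
  haveI := B.closed_z
  haveI : IsClosedImmersion N.i' := N.closed_i'
  haveI : IsClosedImmersion B.i' := B.closed_i'
  haveI : Flat N.g := N.flat_g
  haveI : LocallyOfFiniteType N.g := N.lft_g
  haveI : Flat B.g := B.flat_g
  haveI : LocallyOfFiniteType B.g := B.lft_g
  haveI : Flat N.p := N.flat_p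
  haveI : LocallyOfFiniteType N.p := N.lft_p
  haveI : Flat B.p := B.flat_p
  haveI : LocallyOfFiniteType B.p := B.lft_p
  haveI : Flat Md.p := N.flat_p
  haveI : LocallyOfFiniteType Md.p := N.lft_p
  haveI : QuasiCompact Md.p := Md.chartsP.quasiCompact
  obtain ⟨δP, hP, hgP⟩ := exists_setup N.g hsY
  obtain ⟨δE, hE, hgE⟩ := exists_setup B.g hsX
  haveI : IsLocallyNoetherian N.X' := hP.1
  haveI : IsLocallyNoetherian (space σ hL) := hP.1
  haveI : IsLocallyNoetherian B.X' := hE.1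
  haveI : IsLocallyNoetherian N.D' := LocallyOfFiniteType.isLocallyNoetherian N.i'
  haveI : IsLocallyNoetherian Md.D' := LocallyOfFiniteType.isLocallyNoetherian Md.i'
  haveI : IsLocallyNoetherian B.D' := LocallyOfFiniteType.isLocallyNoetherian B.i'
  haveI := s.lft
  let sP : _root_.Bivar.Sq f δX δY :=
    { Y' := N.X', X' := B.X', g := N.g ≫ s.g, f' := pullback.snd s.f' N.g, g' := B.g ≫ s.g'
      isPullback := (Datum.isPullback_g N s.f').paste_vert s.isPullback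
      lft := inferInstance
      δY' := δP, δX' := δE
      compatY := _root_.Bivar.deltaCompat_comp N.g s.g δP s.δY' δY hgP s.compatY
      compatX := _root_.Bivar.deltaCompat_comp B.g s.g' δE s.δX' δX hgE s.compatX }
  let sD : _root_.Bivar.Sq f δX δY :=
    { Y' := N.D', X' := B.D', g := N.i' ≫ N.g ≫ s.g
      f' := pullback.snd (pullback.snd s.f' N.g) N.i', g' := B.i' ≫ B.g ≫ s.g'
      isPullback := (IsPullback.of_hasPullback (pullback.snd s.f' N.g) N.i').flip.paste_vert sP.isPullback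
      lft := inferInstance
      δY' := fun d => δP (N.i' d), δX' := fun d => δE (B.i' d)
      compatY := _root_.Bivar.deltaCompat_comp N.i' (N.g ≫ s.g) _ δP δY
        (PP.SubSetup.deltaCompat N.i') sP.compatY
      compatX := _root_.Bivar.deltaCompat_comp B.i' (B.g ≫ s.g') _ δE δX
        (PP.SubSetup.deltaCompat B.i') sP.compatX }
  -- shifts
  have hcp : Cyc.DeltaCompat N.p (fun d => δP (N.i' d)) (fun d => s.δY' (i d)) :=
    deltaCompat_of_comm (π := i) (π' := N.i') (f := N.g) N.wp.symm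
      (PP.SubSetup.deltaCompat i) (PP.SubSetup.deltaCompat N.i') hgP
  have hcq : Cyc.DeltaCompat B.p (fun d => δE (B.i' d)) (fun d => s.δX' (j d)) :=
    deltaCompat_of_comm (π := j) (π' := B.i') (f := B.g) B.wp.symm
      (PP.SubSetup.deltaCompat j) (PP.SubSetup.deltaCompat B.i') hgE
  have hsgN : FP.Main.Shift N.g δP s.δY' ((1 : ℕ) : ℤ) := FP.Main.shift_of_hasRelDim _ N.rel_g hgP
  have hsgB : FP.Main.Shift B.g δE s.δX' ((1 : ℕ) : ℤ) := FP.Main.shift_of_hasRelDim _ B.rel_g hgE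
  have hspN : FP.Main.Shift N.p (fun d => δP (N.i' d)) (fun d => s.δY' (i d)) ((1 : ℕ) : ℤ) :=
    FP.Main.shift_of_hasRelDim _ N.rel_p hcp
  have hspB : FP.Main.Shift B.p (fun d => δE (B.i' d)) (fun d => s.δX' (j d)) ((1 : ℕ) : ℤ) :=
    FP.Main.shift_of_hasRelDim _ B.rel_p hcq
  have hδt := Gys.Closed.isDimFun i hsY.2.2
  have hδj := Gys.Closed.isDimFun j hsX.2.2
  have hδD := Gys.Closed.isDimFun N.i' hP.2.2
  have hδB := Gys.Closed.isDimFun B.i' hE.2.2
  have hON := PicLoc.isInvertible_structureModule N.X'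
  obtain ⟨wP, hwP⟩ := exists_sections hON
  obtain ⟨wE, hwE⟩ := exists_sections (PicLoc.isInvertible_structureModule B.X')
  obtain ⟨wE', hwE'⟩ := exists_sections (PicLoc.isInvertible_pullback (pullback.snd s.f' N.g) hON)
  obtain ⟨τE, hτE⟩ := Ext.exists_zero_square
    (IsPullback.of_hasPullback (pullback.snd s.f' N.g) N.i') hON N.hi'
  -- the identity upstairs
  have eY : pull hE.2.2 hsX.2.2 B.g hsgB (totOp (c.op s) x) =
      totOp (c.op sP) (pull hP.2.2 hsY.2.2 N.g hsgN x) :=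
    pull_totOp _ _ _ _ (c.op s) (c.op sP) N.g B.g hsgN hsgB
      (fun k => c.pull s sP N.g B.g 1 N.rel_g B.rel_g rfl pullback.condition rfl k) x
  have eG : gys B.i' hE.2.2 (PicLoc.isInvertible_structureModule B.X') B.hi' hwE
        (totOp (c.op sP) (pull hP.2.2 hsY.2.2 N.g hsgN x)) =
      totOp (c.op sD) (gys N.i' hP.2.2 hON N.hi' hwP (pull hP.2.2 hsY.2.2 N.g hsgN x)) := by
    rw [← gys_totOp hP.2.2 hE.2.2 N.i' B.i' hON N.hi' hwP
      (PicLoc.isInvertible_pullback (pullback.snd s.f' N.g) hON) hτE hwE' (c.op sP) (c.op sD)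
      (fun k => c.gysinTriv sP sD N.i' B.i' rfl pullback.condition rfl _ hON
        ⟨PicLoc.pullbackStructureIso N.i'⟩ N.τ N.hi' τE hτE k)]
    exact gys_unique B.i' (PicLoc.pullbackStructureIso (pullback.snd s.f' N.g)) hE.2.2
      (PicLoc.isInvertible_pullback (pullback.snd s.f' N.g) hON)
      (PicLoc.isInvertible_structureModule B.X') hτE B.hi' hwE' hwE _
  have eM : gys N.i' hP.2.2 hON N.hi' hwP (pull hP.2.2 hsY.2.2 N.g hsgN x) =
      pull hδD hδt N.p hspN (gys i hsY.2.2 hL hσ hw x) := by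
    have hcp' : Cyc.DeltaCompat Md.p (fun d => δP (Md.i' d)) (fun d => s.δY' (i d)) := hcp
    have hD's : Cyc.IsSetup Md.D' (fun d => δP (Md.i' d)) :=
      isSetup_of_deltaCompat Md.i' hP (PP.SubSetup.deltaCompat Md.i')
    exact gys_eq Md hsY hσ hP hgP (by exact_mod_cast hsgN) (by exact_mod_cast hspN)
      (Md.chartsP.data hD's hcp') hw hwP x
  have eP : pull hδB hδj B.p hspB (totOp (c.op t) (gys i hsY.2.2 hL hσ hw x)) =
      totOp (c.op sD) (pull hδD hδt N.p hspN (gys i hsY.2.2 hL hσ hw x)) :=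
    pull_totOp hδt hδj hδD hδB (c.op t) (c.op sD) N.p B.p hspN hspB
      (fun k => c.pull t sD N.p B.p 1 N.rel_p B.rel_p
        (by show N.p ≫ gt = N.i' ≫ N.g ≫ s.g
            rw [← w₁, ← Category.assoc, ← N.wp, Category.assoc])
        (hsq.lift_fst _ _ _)
        (by show B.p ≫ g't = B.i' ≫ B.g ≫ s.g'
            rw [← w₃, ← Category.assoc, ← B.wp, Category.assoc]) k) _
  -- restrict to the section
  have hMi := PicLoc.isInvertible_pullback B.i' B.hM
  obtain ⟨υ', hυ'⟩ := (by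
    haveI := B.closed_jF
    exact Ext.exists_zero_square B.sq B.hM B.hjF : ∃ υ', Cyc.IsZeroSchemeOf B.z
      ((Scheme.Modules.pullback B.i').obj B.M) υ')
  obtain ⟨w₁', hw₁'⟩ := exists_sections hMi
  have ez : (fun d => s.δX' (j d)) = fun d => δE (B.i' (B.z d)) :=
    funext fun d => (B.delta_sec hgE d).symm
  have hsec := B.sec_eq hsX hLX hτ hE hgE (by exact_mod_cast hsgB) hw' hwE hυ' hMi hw₁' ez
    (totOp (c.op s) x)
  have hback := gys_sec B.p B.z B.z_p hMi hυ' hw₁' hδB hδj (by exact_mod_cast hspB) ez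
    (totOp (c.op t) (gys i hsY.2.2 hL hσ hw x))
  refine cast_injective ez ?_
  rw [← hsec, ← hback]
  exact congrArg _ (eY.symm ▸ eG.trans ((congrArg _ eM).trans eP.symm))

end Groth.Agent.Lib.Cyc.Deform.WeakCl
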